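import Cfsg.Agent.Lib.CE.L
import Cfsg.Agent.Lib.CE.A1

/-!
# The case `q = 2`: `C_T(z) = R`
-/

set_option autoImplicit false
set_option linter.unusedSectionVars false

namespace Cfsg.Agent.CE

open Subgroup Cfsg.Agent.OO Cfsg.Agent.ZN
open scoped Pointwise

universe u

variable {X : Type u} [Group X] [Finite X] {T Q R : Subgroup X} {a b x y z g : X}

theorem Q2.comm_mem (h : Q2 T Q R y z g) (ha : a ∈ R) (hb : b ∈ R) : a * b * a⁻¹ * b⁻¹ ∈ Q := by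
  by_cases e : b ∈ Q
  · exact Q.mul_mem (conj_mem_of_norm (h.RQ ha) e) (inv_mem e)
  · refine h.mul_mem (R.mul_mem (R.mul_mem ha hb) (inv_mem ha)) (inv_mem hb) (fun f => e ?_)
      (by rwa [inv_mem_iff])
    have := conj_mem_of_norm (inv_mem (h.RQ ha)) f
    rwa [show a⁻¹ * (a * b * a⁻¹) * a⁻¹⁻¹ = b by group] at this

/-- case alpha does not occur -/
theorem Q2.alpha (h : Q2 T Q R y z g) (hp : (orderOf x).Prime) (hx : x ∈ 𝐍(T))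
    (hf : T ⊓ 𝐂[x] = ⊥) : T ⊓ 𝐂[z] ≤ R := by
  by_contra hn
  have : Fact (Nat.Prime 2) := ⟨Nat.prime_two⟩
  obtain ⟨t, ht, t1⟩ := SetLike.exists_of_lt (Transfer.lt_inf_normalizer_of_lt
    (h.pT.to_le inf_le_left) (lt_of_le_not_ge (le_inf h.RT h.Rz) hn))
  have tz : t * z * t⁻¹ = z := by rw [mem_cent1.1 ht.1.2, mul_inv_cancel_right]
  by_cases hv : t * y * t⁻¹ ∈ 𝐂[y]
  · exact h.a2 ht.1.1 ht.2 tz t1 (mem_cent1.1 hv)
  have h' := h.conj (le_norm_self T ht.1.1)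
  rw [conj_eq_of_mem_norm ht.2] at h'
  refine a1 h.pT hp hx hf h.yT (h.QT h.zQ) h.y2 h.z2 h.z1 (fun q hq => h.cz (h.QR (h.hQ ▸ hq)))
    (fun k hk e => h.mv' (h.memR hk (h.hQ ▸ e))) (fun a ha u hu e => hv ?_) ht.1.1 tz hv
  rw [← h.hQ] at ha hu
  have := h'.comm_mem (h.QR (conj_mem_of_norm h.gQ ha)) (h.QR (conj_mem_of_norm h.gQ hu))
  rw [show g * a * g⁻¹ * (g * u * g⁻¹) * (g * a * g⁻¹)⁻¹ * (g * u * g⁻¹)⁻¹ =
    g * (a * u * a⁻¹ * u⁻¹) * g⁻¹ by group, e, h.gz] at this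
  exact mem_cent1.2 (h'.cy this).symm

theorem Q2.cent_eq (h : Q2 T Q R y z g) (hp : (orderOf x).Prime) (hx : x ∈ 𝐍(T))
    (hf : T ⊓ 𝐂[x] = ⊥) : T ⊓ 𝐂[z] = R :=
  le_antisymm (h.alpha hp hx hf) (le_inf h.RT h.Rz)

end Cfsg.Agent.CE
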