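import Cfsg.Agent.Lib.CE.Min
import Cfsg.Agent.Lib.CE.HH

/-!
# `CE`: the subgroup `Z = Ω₁(Z(T))` of a minimal counterexample
-/

set_option autoImplicit false
set_option linter.unusedSectionVars false

namespace Cfsg.Agent.CE

open Subgroup Cfsg.Agent.Coprime Cfsg.Agent.OO Cfsg.Agent.GW
open scoped Pointwise commutatorElement

universe u

variable {X : Type u} [Group X] [Finite X] {G T U : Subgroup X} {x : X}

/-- the product of the `x`-conjugates of an element of an invariant 2-subgroup is trivial -/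
theorem Min.mul_pow_eq_one (h : Min G x) (hU : U ≤ G) (h2 : IsPGroup 2 U) (hx : x ∈ 𝐍(U)) {t : X}
    (ht : t ∈ U) : (t * x) ^ orderOf x = 1 := by
  have := Fact.mk Nat.prime_two
  have hc : (♯U).Coprime ♯(zpowers x) := by
    rw [Nat.card_zpowers]; exact h.cop.coprime_dvd_left (card_dvd hU)
  have h0 : U ⊓ 𝐂[x] = ⊥ := eq_bot_of_le_odd (h2.to_le inf_le_left) (inf_le_inf_right _ hU) h.odd
  have h1 : Function.Injective fun u : U => (⟨u * (x * u⁻¹ * x⁻¹),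
      U.mul_mem u.2 (conj_mem_of_norm hx (U.inv_mem u.2))⟩ : U) := fun u v e => by
    have h3 : (u : X) * (x * (u : X)⁻¹ * x⁻¹) = v * (x * (v : X)⁻¹ * x⁻¹) := congrArg Subtype.val e
    have h4 : (v : X)⁻¹ * u ∈ U ⊓ 𝐂[x] := ⟨U.mul_mem (U.inv_mem v.2) u.2, mem_cent1.2 (by
      calc (v : X)⁻¹ * u * x = (v : X)⁻¹ * (u * (x * (u : X)⁻¹ * x⁻¹)) * x * u := by group
        _ = _ := by rw [h3]; group)⟩
    exact Subtype.ext (inv_mul_eq_one.1 (mem_bot.1 (h0.le h4))).symm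
  obtain ⟨u, hu⟩ := Finite.injective_iff_surjective.1 h1 ⟨t, ht⟩
  have h3 : (u : X) * (x * (u : X)⁻¹ * x⁻¹) = t := congrArg Subtype.val hu
  rw [show t * x = u * x * (u : X)⁻¹ by rw [← h3]; group, conj_pow, pow_orderOf_eq_one, mul_one,
    mul_inv_cancel]

/-- a subgroup containing all `x`-conjugates of `t` but one contains `t` -/
theorem Min.mem_of_conj_mem (h : Min G x) (hU : U ≤ G) (h2 : IsPGroup 2 U) (hx : x ∈ 𝐍(U)) {t : X}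
    (ht : t ∈ U) {C : Subgroup X}
    (hC : ∀ k, 0 < k → k < orderOf x → x ^ k * t * (x ^ k)⁻¹ ∈ C) : t ∈ C := by
  have h3 : ∀ n, n < orderOf x → ∃ c ∈ C, (t * x) ^ (n + 1) = t * c * x ^ (n + 1) := by
    intro n
    induction n with
    | zero => exact fun _ => ⟨1, one_mem _, by simp⟩
    | succ n ih =>
      intro hn
      obtain ⟨c, hc, e'⟩ := ih (by omega)
      refine ⟨c * (x ^ (n + 1) * t * (x ^ (n + 1))⁻¹), mul_mem hc (hC _ (by omega) hn), ?_⟩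
      rw [pow_succ, e', pow_succ x (n + 1)]
      group
  obtain ⟨c, hc, h4⟩ := h3 (orderOf x - 1) (by have := h.prime.pos; omega)
  rw [Nat.sub_add_cancel h.prime.pos, pow_orderOf_eq_one, mul_one, h.mul_pow_eq_one hU h2 hx ht] at h4
  rw [eq_inv_of_mul_eq_one_left h4.symm]
  exact C.inv_mem hc

theorem Min.cop_le (h : Min G x) (hU : U ≤ G) : (♯U).Coprime (orderOf x) :=
  h.cop.coprime_dvd_left (card_dvd hU)

theorem Min.odd_le (h : Min G x) (hU : U ≤ G) : Odd ♯(U ⊓ 𝐂[x]) :=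
  h.odd.of_dvd_nat (card_dvd (inf_le_inf_right _ hU))

theorem Min.norm_inf (h : Min G x) (hx : x ∈ 𝐍(U)) : x ∈ 𝐍(G ⊓ 𝐍(U)) :=
  le_norm_inf (zpowers_le.2 h.norm) (le_norm_of_le (zpowers_le.2 hx)) (mem_zpowers x)

/-- the normalizer of an invariant subgroup `U` of `Z(T)` is `C(U) C(x)` -/
theorem Min.norm_le (h : Min G x) (hT : Syl 2 T G) (hU : U ≤ Zc T) (u0 : U ≠ ⊥) (hx : x ∈ 𝐍(U)) :
    Op'p 2 (G ⊓ 𝐍(U)) ≤ 𝐂(U) ∧ ∀ k ∈ G ⊓ 𝐍(U), ∃ c ∈ G ⊓ 𝐂(U), ∃ e ∈ G ⊓ 𝐍(U) ⊓ 𝐂[x], k = e * c := by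
  have := Fact.mk Nat.prime_two
  have u1 := hU.trans (Zc_le T)
  have u2 := hT.isPGroup.to_le u1
  have u3 : T ≤ 𝐂(U) := le_cent_symm (hU.trans inf_le_right)
  have hs := h.sol_norm (u1.trans hT.le) u0 (sol_of_isPGroup u2) hx
  have h1 : Syl 2 T (G ⊓ 𝐍(U)) := hT.mono (le_inf hT.le (u3.trans (cent_le_norm U))) inf_le_left
  have h2 : Op'p 2 (G ⊓ 𝐍(U)) ≤ 𝐂(U) := by
    rw [← sup_eq_Op'p (R := zpowers x) (by rw [Nat.card_zpowers]; exact h.prime)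
      (zpowers_le.2 (h.norm_inf hx)) hs (by rw [Nat.card_zpowers]; exact h.cop_le inf_le_left)
      (by rw [cent_zpowers]; exact h.odd_le inf_le_left) h1]
    exact sup_le ((Op'_le_cent_Op 2 _).trans (cent_anti (le_Op ⟨le_inf (u1.trans hT.le)
      (le_norm_self U), inf_le_right⟩ u2))) u3
  refine ⟨h2, fun k hk => ?_⟩
  have h3 := Op'p_sup_cent_x h.prime (h.norm_inf hx) hs (h.cop_le inf_le_left) (h.odd_le inf_le_left)
  rw [← h3, sup_comm] at hk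
  obtain ⟨e, he, c, hc, rfl⟩ := (mem_sup_norm_right
    (inf_le_left.trans (Op'p_normal 2 _).norm)).1 hk
  exact ⟨c, ⟨(Op'p_le 2 _ hc).1, h2 hc⟩, e, he, rfl⟩

section

variable (h : Min G x) (hT : Syl 2 T G) (hxT : x ∈ 𝐍(T))
include h hT hxT

theorem Min.T_ne_bot : T ≠ ⊥ := haveI := Fact.mk Nat.prime_two; hT.ne_bot h.two_dvd

theorem Min.Z_ne_bot : Ohm 2 (Zc T) ≠ ⊥ :=
  haveI := Fact.mk Nat.prime_two
  Ohm_ne_bot (hT.isPGroup.to_le (Zc_le T)) (Zc_ne_bot (nil_of_isPGroup hT.isPGroup) (h.T_ne_bot hT hxT))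

theorem Min.norm_Z : x ∈ 𝐍(Ohm 2 (Zc T)) := norm_le_norm_Ohm 2 _ (norm_le_norm_Zc T hxT)

/-- (P1) a 2-subgroup normalizing a point centralizes it -/
theorem Min.p1 {g : X} (hg : g ∈ G) (hU : U ≤ G) (h2 : IsPGroup 2 U)
    (hn : U ≤ 𝐍(g •ᶜ Ohm 2 (Zc T))) : U ≤ 𝐂(g •ᶜ Ohm 2 (Zc T)) := by
  have := Fact.mk Nat.prime_two
  have h1 := (h.norm_le hT (Ohm_le 2 _) (h.Z_ne_bot hT hxT) (h.norm_Z hT hxT)).1
  have z1 := ((Ohm_le 2 _).trans (Zc_le T))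
  rw [norm_conj] at hn
  rw [cent_conj, le_conj_iff_inv_conj_le]
  refine (le_Op'p_of_two (R := zpowers x) (by rw [Nat.card_zpowers]; exact h.prime)
    (zpowers_le.2 (h.norm_inf (h.norm_Z hT hxT))) (h.sol_norm (z1.trans hT.le) (h.Z_ne_bot hT hxT)
      (sol_of_isPGroup (hT.isPGroup.to_le z1)) (h.norm_Z hT hxT))
    (by rw [Nat.card_zpowers]; exact h.cop_le inf_le_left)
    (by rw [cent_zpowers]; exact h.odd_le inf_le_left) (isPGroup_conj.2 h2)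
    (le_inf ?_ (le_conj_iff_inv_conj_le.1 hn))).trans h1
  rw [← conj_eq_of_mem (G.inv_mem hg)]
  exact conj_le_conj_iff.2 hU

/-- (P3) for normal subgroups of `T` -/
theorem Min.p3 (h1 : Ohm 2 (Zc T) ≤ U) (h2 : U ⊴ T) (hx : x ∈ 𝐍(U)) :
    G ⊓ 𝐍(U) ≤ 𝐍(Ohm 2 (Zc T)) := by
  have := Fact.mk Nat.prime_two
  have u2 := hT.isPGroup.to_le h2.le
  have hs := h.sol_norm (h2.le.trans hT.le) (fun e => h.Z_ne_bot hT hxT (eq_bot_iff.2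
    (h1.trans e.le))) (sol_of_isPGroup u2) hx
  rw [← sup_norm_x h.prime (h.norm_inf hx) hs (h.cop_le inf_le_left) (h.odd_le inf_le_left)
    (hT.mono (le_inf hT.le h2.norm) inf_le_left)]
  exact sup_le (((Op'_le_cent_Op 2 _).trans (cent_anti (h1.trans (le_Op ⟨le_inf (h2.le.trans hT.le)
    (le_norm_self U), inf_le_right⟩ u2)))).trans (cent_le_norm _))
    (inf_le_right.trans ((norm_le_norm_Zc T).trans (norm_le_norm_Ohm 2 _)))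

/-- `N(Z)` and `x` commute on `Z` -/
theorem Min.comm_Z {k z : X} (hk : k ∈ G ⊓ 𝐍(Ohm 2 (Zc T))) (hz : z ∈ Ohm 2 (Zc T)) :
    x * (k * z * k⁻¹) * x⁻¹ = k * (x * z * x⁻¹) * k⁻¹ := by
  obtain ⟨c, hc, e, he, rfl⟩ :=
    (h.norm_le hT (Ohm_le 2 _) (h.Z_ne_bot hT hxT) (h.norm_Z hT hxT)).2 k hk
  have h1 : ∀ w ∈ Ohm 2 (Zc T), e * c * w * (e * c)⁻¹ = e * w * e⁻¹ := fun w hw => by
    have := mem_cent_iff.1 hc.2 w hw
    calc _ = e * (c * w) * c⁻¹ * e⁻¹ := by group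
      _ = _ := by rw [← this]; group
  have h2 := mem_cent1.1 he.2
  rw [h1 z hz, h1 _ (conj_mem_of_norm (h.norm_Z hT hxT) hz)]
  calc _ = (x * e) * z * (x * e)⁻¹ := by group
    _ = _ := by rw [← h2]; group

/-- the case `q > 2` does not occur -/
theorem Min.q_two {Z0 : Subgroup X}
    (tr : ∀ z ∈ Ohm 2 (Zc T), ∀ w ∈ Ohm 2 (Zc T), z ∉ Z0 → w ∉ Z0 →
      ∃ k ∈ G ⊓ 𝐍(Ohm 2 (Zc T)) ⊓ 𝐂(Z0), k * z * k⁻¹ * w⁻¹ ∈ Z0) (h0 : Z0 ≤ Ohm 2 (Zc T))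
    {z w : X} (hz : z ∈ Ohm 2 (Zc T)) (hw : w ∈ Ohm 2 (Zc T)) (z0 : z ∉ Z0) (w0 : w ∉ Z0) :
    z * w⁻¹ ∈ Z0 := by
  have := Fact.mk Nat.prime_two
  set Z := Ohm 2 (Zc T)
  have ea : IsElementaryAbelian 2 Z := Ohm_abelem 2 (Zc_ab T)
  have z1 : Z ≤ G := ((Ohm_le 2 _).trans (Zc_le T)).trans hT.le
  let E := G ⊓ 𝐍(Z) ⊓ 𝐂[x] ⊓ 𝐂(Z0)
  have e1 : E ≤ 𝐍(Z) := inf_le_left.trans (inf_le_left.trans inf_le_right)
  have tr' : ∀ z ∈ Z, ∀ w ∈ Z, z ∉ Z0 → w ∉ Z0 → ∃ e ∈ E, e * z * e⁻¹ * w⁻¹ ∈ Z0 :=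
    fun z hz w hw z0 w0 => by
    obtain ⟨k, hk, h1⟩ := tr z hz w hw z0 w0
    obtain ⟨c, hc, e, he, rfl⟩ :=
      (h.norm_le hT (Ohm_le 2 _) (h.Z_ne_bot hT hxT) (h.norm_Z hT hxT)).2 k hk.1
    refine ⟨e, ⟨he, (mul_mem_cancel_right (cent_anti h0 hc.2)).1 hk.2⟩, ?_⟩
    have := mem_cent_iff.1 hc.2 z hz
    rwa [show e * c * z * (e * c)⁻¹ = e * z * e⁻¹ by
      calc _ = e * (c * z) * c⁻¹ * e⁻¹ := by group
        _ = _ := by rw [← this]; group] at h1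
  have h1 : ⁅Z, E⁆ ⊓ 𝐂(E) = ⊥ := coprime_abel_cent_TI e1
    (coprime_of_isPGroup (hT.isPGroup.to_le ((Ohm_le 2 _).trans (Zc_le T)))
      (pi_of_odd (h.odd.of_dvd_nat (card_dvd (inf_le_left.trans
        (inf_le_inf_right _ inf_le_left)))))) ea.1
  have h2 : Z0 ≤ 𝐂(E) := le_cent_symm inf_le_right
  have h3 : ⁅Z, E⁆ ≤ Z := commutator_le_left' e1
  have h4 : x ∈ 𝐍(⁅Z, E⁆) := le_norm_commutator (zpowers_le.2 (h.norm_Z hT hxT))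
    (zpowers_le.2 (cent_le_norm E (le_cent_symm (inf_le_left.trans
      (inf_le_right.trans (cent_zpowers x).ge)) (mem_zpowers x)))) (mem_zpowers x)
  by_contra hne
  obtain ⟨e, he, h5⟩ := tr' z hz w⁻¹⁻¹ (by simpa using hw) z0 (by simpa using w0)
  have h6 : ⁅z, e⁆ ∈ ⁅Z, E⁆ := commutator_mem_commutator hz he
  have h7 : ⁅z, e⁆ ∉ Z0 := fun e' => hne (by
    have h8 := Z0.mul_mem e' h5
    have h9 : z⁻¹ = z := inv_eq_of_mul_eq_one_right (by rw [← sq]; exact ea.2 z hz)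
    have h10 : e * z * e⁻¹ * (e * z * e⁻¹) = 1 := by
      rw [← sq]; exact ea.2 _ (conj_mem_of_norm (e1 he) hz)
    rwa [commutatorElement_def, h9, inv_inv, show z * e * z * e⁻¹ * (e * z * e⁻¹ * w⁻¹) =
      z * (e * z * e⁻¹ * (e * z * e⁻¹)) * w⁻¹ by group, h10, mul_one] at h8)
  have h8 := conj_mem_of_norm h4 h6
  have v1 : ⁅z, e⁆ ≠ 1 := fun e' => h7 (e' ▸ one_mem _)
  have h9 : x * ⁅z, e⁆ * x⁻¹ ∉ Z0 := fun e' => v1 (by simpa using mem_bot.1 (h1.le ⟨h8, h2 e'⟩))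
  obtain ⟨f, hf, h10⟩ := tr' _ (h3 h6) _ (h3 h8) h7 h9
  have h11 := mem_bot.1 (h1.le ⟨(⁅Z, E⁆).mul_mem (conj_mem_of_norm (le_norm_commutator e1 (le_norm_self E) hf)
    h6) ((⁅Z, E⁆).inv_mem h8), h2 h10⟩)
  exact h.not_conj (z1 (h3 h6)) v1 (by rw [← sq]; exact ea.2 _ (h3 h6)) hf.1.1.1
    (mul_inv_eq_one.1 h11).symm

end

end Cfsg.Agent.CE
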