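import Cfsg.Agent.Lib.CE.FF
import Cfsg.Agent.Lib.CE.Pts

/-!
# The offender acts as a transvection
-/

set_option autoImplicit false
set_option linter.unusedSectionVars false

namespace Cfsg.Agent.CE

open Subgroup Cfsg.Agent.Coprime Cfsg.Agent.OO
open scoped Pointwise commutatorElement

universe u

variable {X : Type u} [Group X] [Finite X] {G T K W Z Q A : Subgroup X} {x : X}

theorem FFD.ca (d : FFD K W Z Q A) : ∀ a ∈ A, a ∉ Q → W ⊓ 𝐂[a] ≤ W ⊓ 𝐂(A) := by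
  obtain ⟨-, -, -, -, h, -⟩ := d.main; exact h

theorem FFD.cardE (d : FFD K W Z Q A) : ♯((A ⊓ Q) ⊔ W : Subgroup X) = ♯A := by
  obtain ⟨-, -, -, -, -, h, -⟩ := d.main; exact h

theorem FFD.q2 (h : Min G x) (hT : Syl 2 T G) (hxT : x ∈ 𝐍(T)) (hK : K ≤ G)
    (d : FFD K W (Ohm 2 (Zc T)) Q A) : ♯W = 2 * ♯(W ⊓ 𝐂(A) : Subgroup X) := by
  obtain ⟨s, hs, -, h1, -, -, -, h2, h3, h4⟩ := d.main
  set C1 := W ⊓ 𝐂(A) with hC1
  set C2 := s •ᶜ C1 with hC2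
  have hC2W : C2 ≤ W := conj_le_of_mem_norm (d.KW hs) inf_le_left
  obtain ⟨z, hz, hz'⟩ := SetLike.not_le_iff_exists.1 h3
  have q := @Min.q_two X _ _ G T x h hT hxT (Ohm 2 (Zc T) ⊓ C2) (fun z hz w hw z0 w0 => by
    obtain ⟨g, hg, h5⟩ := h4 z (h2 hz) w (h2 hw) (fun e => z0 ⟨hz, e⟩) fun e => w0 ⟨hw, e⟩
    exact ⟨g, ⟨⟨hK hg.1.1, hg.1.2⟩, cent_anti (inf_le_inf_right _ h2) hg.2⟩,
      mem_inf.2 ⟨Subgroup.mul_mem _ (conj_mem_of_norm hg.1.2 hz) (Subgroup.inv_mem _ hw), h5.2⟩⟩)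
    inf_le_left
  have hi : (C1 ⊓ C2).relIndex C1 = 2 := by
    rw [inf_relIndex_left]
    refine (relIndex_eq_two_iff).2 ⟨z, h2 hz, fun c hc => ?_⟩
    by_cases hc2 : c ∈ C2
    · exact Or.inr ⟨hc2, fun e => hz' (by simpa using C2.mul_mem (C2.inv_mem hc2) e)⟩
    refine Or.inl ⟨?_, hc2⟩
    obtain ⟨g, hg, h5⟩ := h4 z (h2 hz) c hc hz' hc2
    have h6 := conj_mem_of_norm hg.1.2 hz
    have h7 := q h6 hz (fun e => hc2 (by
      simpa [mul_assoc] using C2.mul_mem (C2.inv_mem h5.2) e.2)) fun e => hz' e.2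
    have h8 : c * z⁻¹ ∈ C2 := by simpa [mul_assoc] using C2.mul_mem (C2.inv_mem h5.2) h7.2
    have h9 : z⁻¹ = z := inv_eq_of_mul_eq_one_right (by rw [← pow_two, d.hW.2 z (d.ZW hz)])
    exact h9 ▸ h8
  have c1 := card_sup_mul_card_inf (A := C1) (B := C2)
    (Or.inl (inf_le_left.trans (le_norm_of_ab (abelem_ab d.hW) hC2W)))
  have c2 := card_inf_mul_relIndex (C1 ⊓ C2) C1
  rw [← h1, hC2, ff_card_conj, ← hC2] at c1
  rw [hi, inf_eq_left.2 inf_le_left] at c2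
  refine Nat.eq_of_mul_eq_mul_right (card_pos' (C1 ⊓ C2)) ?_
  rw [c1]; nth_rw 2 [← c2]; ring

end Cfsg.Agent.CE
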