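import Cfsg.Agent.Lib.R4.S3C
import Cfsg.Agent.Lib.R4.Fin45
import Cfsg.Agent.Lib.SZ.S3F
import Cfsg.Agent.Lib.Coprime.Action
import Cfsg.Agent.Lib.CE.Def

/-!
# `CE`: invariant classes, and the `S₃`-free case
-/

set_option autoImplicit false
set_option linter.unusedSectionVars false

namespace Cfsg.Agent.CE

open Subgroup Cfsg.Agent.Coprime Cfsg.Agent.OO Cfsg.Agent.GW Cfsg.Agent.SZ
open scoped Pointwise

universe u

variable {X : Type u} [Group X] [Finite X] {G : Subgroup X} {x z g : X}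

/-- an `x`-invariant `G`-class contains a fixed point of `x` -/
theorem exists_conj_fixed (hx : x ∈ 𝐍(G)) (hc : (♯G).Coprime (orderOf x)) (hg : g ∈ G)
    (e : x * z * x⁻¹ = g * z * g⁻¹) : ∃ h ∈ G, h * z * h⁻¹ ∈ 𝐂[x] := by
  letI : MulAction X (ConjAct X) :=
    { smul := fun a b => ConjAct.toConjAct (a * ConjAct.ofConjAct b * a⁻¹)
      one_smul := fun b => by
        change ConjAct.toConjAct (1 * ConjAct.ofConjAct b * 1⁻¹) = b
        simp
      mul_smul := fun a c b => by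
        change ConjAct.toConjAct (a * c * ConjAct.ofConjAct b * (a * c)⁻¹) =
          ConjAct.toConjAct (a * (c * ConjAct.ofConjAct b * c⁻¹) * a⁻¹)
        congr 1
        group }
  have h1 : ∀ n : ℕ, ∃ h ∈ G, x ^ n * z * (x ^ n)⁻¹ = h * z * h⁻¹ := fun n => by
    induction n with
    | zero => exact ⟨1, one_mem _, by simp⟩
    | succ n ih =>
      obtain ⟨h, hh, e'⟩ := ih
      refine ⟨x * h * x⁻¹ * g, mul_mem (conj_mem_of_norm hx hh) hg, ?_⟩
      calc _ = x * (x ^ n * z * (x ^ n)⁻¹) * x⁻¹ := by rw [pow_succ']; group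
        _ = x * h * x⁻¹ * (x * z * x⁻¹) * (x * h * x⁻¹)⁻¹ := by rw [e']; group
        _ = _ := by rw [e]; group
  obtain ⟨h, hh, h2⟩ := glauberman_exists (A := zpowers x) (G := G) (zpowers_le.2 hx)
    (by rw [Nat.card_zpowers]; exact hc.symm) (Or.inl (sol_of_ab (ab_of_isCyclic inferInstance)))
    (ConjAct.toConjAct z) fun a ha => by
      obtain ⟨n, rfl⟩ := mem_powers_iff_mem_zpowers.2 ha
      obtain ⟨h, hh, e'⟩ := h1 n
      exact ⟨h, hh, congrArg ConjAct.toConjAct e'⟩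
  exact ⟨h, hh, mem_cent1_comm.1 (mem_cent1_iff_conj.2
    (congrArg ConjAct.ofConjAct (h2 x (mem_zpowers x))))⟩

/-- no class of involutions is `x`-invariant -/
theorem not_conj (hx : x ∈ 𝐍(G)) (hc : (♯G).Coprime (orderOf x)) (ho : Odd ♯(G ⊓ 𝐂[x]))
    (hz : z ∈ G) (z1 : z ≠ 1) (z2 : z * z = 1) (hg : g ∈ G) : x * z * x⁻¹ ≠ g * z * g⁻¹ := fun e => by
  obtain ⟨h, hh, h1⟩ := exists_conj_fixed hx hc hg e
  have h2 : h * z * h⁻¹ ∈ G ⊓ 𝐂[x] := ⟨G.mul_mem (G.mul_mem hh hz) (G.inv_mem hh), h1⟩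
  have h3 : orderOf (h * z * h⁻¹) = 2 := by
    have := Fact.mk Nat.prime_two
    refine orderOf_eq_prime ?_ fun e' => z1 (by simpa using e')
    rw [conj_pow, sq, z2, mul_one, mul_inv_cancel]
  exact ho.not_two_dvd_nat (h3 ▸ orderOf_dvd_card h2)

/-- a simple group with an operator as in `CE` involves `S₃` -/
theorem not_s3f (hx : x ∈ 𝐍(G)) (hc : (♯G).Coprime (orderOf x)) (ho : Odd ♯(G ⊓ 𝐂[x]))
    (hs : Smp G) (ha : ¬ Ab G) : ¬ S3F G := fun h3 => by
  have := Fact.mk Nat.prime_two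
  have := hs.isSimpleGroup fun e => ha (e ▸ inferInstance)
  obtain ⟨T, hT⟩ := exists_syl 2 (⊤ : Subgroup G)
  obtain ⟨W, k, hf⟩ := R4.s3c.sf ha h3 hT
  have h4 := hf.four
  obtain ⟨w, hw, w1⟩ : ∃ w ∈ W, w ≠ 1 := by
    by_contra! e
    rw [show W = ⊥ from eq_bot_iff.2 fun w hw => mem_bot.2 (e w hw), card_bot] at h4
    omega
  have w2 := ((hf.mem w).1 hw).2
  let v : G := ⟨x * w * x⁻¹, conj_mem_of_norm hx w.2⟩
  have v2 : v * v = 1 := Subtype.ext (by
    change x * w * x⁻¹ * (x * w * x⁻¹) = 1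
    have h5 : (w : X) * w = 1 := congrArg Subtype.val w2
    calc _ = x * (w * w) * x⁻¹ := by group
      _ = 1 := by rw [h5]; group)
  have v1 : v ≠ 1 := fun e => w1 (Subtype.ext (by
    have h5 : x * w * x⁻¹ = 1 := congrArg Subtype.val e
    simpa using h5))
  obtain ⟨g, -, hg⟩ := hT.exists_conj_le (Q := zpowers v) le_top
    (Core.isPGroup_zpowers_of_pow_eq_one (k := 1) (by rw [pow_one, sq, v2]))
  have h5 : g * v * g⁻¹ ∈ W := (hf.mem _).2 ⟨hg (mem_conj_iff_exists.2 ⟨v, mem_zpowers v, rfl⟩), by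
    calc _ = g * (v * v) * g⁻¹ := by group
      _ = 1 := by rw [v2]; group⟩
  obtain ⟨j, hj⟩ := hf.cyc w hw _ h5 w1 (fun e => v1 (by simpa using e))
  refine not_conj hx hc ho w.2 (fun e => w1 (Subtype.ext e)) (congrArg Subtype.val w2)
    (g⁻¹ * k ^ j).2 ?_
  have h6 : v = g⁻¹ * k ^ j * w * (g⁻¹ * k ^ j)⁻¹ := by
    calc v = g⁻¹ * (g * v * g⁻¹) * g := by group
      _ = _ := by rw [← hj]; group
  exact congrArg Subtype.val h6

/-- a simple group with an operator as in `CE` has order divisible by `3` -/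
theorem three_dvd (hx : x ∈ 𝐍(G)) (hc : (♯G).Coprime (orderOf x)) (ho : Odd ♯(G ⊓ 𝐂[x]))
    (hs : Smp G) (ha : ¬ Ab G) : 3 ∣ ♯G := by_contra fun e =>
  not_s3f hx hc ho hs ha (s3f_of_not_dvd e)

/-- the order of the operator is at least `5` -/
theorem five_le (hp : (orderOf x).Prime) (hx : x ∈ 𝐍(G)) (hc : (♯G).Coprime (orderOf x))
    (ho : Odd ♯(G ⊓ 𝐂[x])) (hs : Smp G) (ha : ¬ Ab G) (h2 : 2 ∣ ♯G) : 5 ≤ orderOf x := by
  have h3 := three_dvd hx hc ho hs ha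
  have h4 : orderOf x ≠ 2 := fun e =>
    (Nat.prime_two.coprime_iff_not_dvd.1 (e ▸ hc.symm)) h2
  have h5 : orderOf x ≠ 3 := fun e =>
    (Nat.prime_three.coprime_iff_not_dvd.1 (e ▸ hc.symm)) h3
  have h6 : orderOf x ≠ 4 := fun e => absurd (e ▸ hp) (by decide)
  have := hp.two_le
  omega

end Cfsg.Agent.CE
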