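import Cfsg.Agent.Lib.CE.HH
import Cfsg.Agent.Lib.CE.S3F
import Cfsg.Agent.Lib.ZN.Theta
import Cfsg.Agent.Lib.Part.Odd
import Cfsg.Agent.Lib.R1.ZStar

/-!
# `CE`, package FIN: `Ω₁(Z(T))` is not weakly closed in `T`
-/

set_option autoImplicit false
set_option linter.unusedSectionVars false

namespace Cfsg.Agent.CE

open Subgroup Cfsg.Agent.Coprime Cfsg.Agent.OO Cfsg.Agent.GW Cfsg.Agent.Sig
open scoped Pointwise

universe u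

variable {X : Type u} [Group X] [Finite X] {G H K M T Y : Subgroup X} {a b g w x z : X}

namespace Fin

theorem zstar (hz : z ∈ H) (z2 : z * z = 1)
    (e : ∀ g ∈ H, z * (g * z * g⁻¹) = g * z * g⁻¹ * z → g * z * g⁻¹ = z) (hg : g ∈ H) :
    g * z * g⁻¹ * z⁻¹ ∈ Op' 2 H :=
  Op'_eq_map (p := 2) H ▸ mem_map_of_mem _ (R1.zstar H ⟨z, hz⟩ (Subtype.ext z2)
    (fun k e' => Subtype.ext (e k k.2 (congrArg Subtype.val e'))) ⟨g, hg⟩)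

/-- `θ(z) = O(C_G(z))` -/
abbrev th (G : Subgroup X) (z : X) : Subgroup X := Op' 2 (G ⊓ 𝐂[z])

/-- `⟨θ(b) : b ∈ B^#⟩` -/
def KK (G B : Subgroup X) : Subgroup X := ⨆ b ∈ sharp B, th G b

theorem th_le_KK (hb : b ∈ Y) (h1 : b ≠ 1) : th G b ≤ KK G Y :=
  le_iSup₂_of_le (f := fun b (_ : b ∈ sharp Y) => th G b) b (mem_sharp_iff.2 ⟨hb, h1⟩) le_rfl

theorem KK_le (h : ∀ b ∈ Y, b ≠ 1 → th G b ≤ K) : KK G Y ≤ K :=
  iSup₂_le fun b hb => h b (mem_sharp_iff.1 hb).1 (mem_sharp_iff.1 hb).2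

theorem mem_norm_KK (hg : g ∈ 𝐍(G)) (hY : g ∈ 𝐍(Y)) : g ∈ 𝐍(KK G Y) := by
  refine mem_norm_of_conj_le (conj_le_iff_le_inv_conj.2 (KK_le fun b hb h1 => ?_))
  rw [← conj_le_iff_le_inv_conj]
  have e : g •ᶜ th G b = th G (g * b * g⁻¹) := by
    rw [th, th, cent1_conj]
    nth_rewrite 2 [← conj_eq_of_mem_norm hg]
    rw [← conj_inf]
    exact (Opi_conj _ _ _).symm
  rw [e]
  exact th_le_KK (conj_mem_of_norm hY hb) fun e' => h1 (by simpa using e')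

/-- the hypotheses -/
structure Hyp (G T : Subgroup X) (x : X) : Prop where
  hp : (orderOf x).Prime
  hx : x ∈ 𝐍(G)
  hc : (♯G).Coprime (orderOf x)
  ho : Odd ♯(G ⊓ 𝐂[x])
  hs : Smp G
  ha : ¬ Ab G
  hmin : ∀ H ≤ G, H ≠ G → x ∈ 𝐍(H) → Sol H
  hT : Syl 2 T G
  hxT : x ∈ 𝐍(T)
  wc : ∀ g ∈ G, g •ᶜ Ohm 2 (Zc T) ≤ T → g •ᶜ Ohm 2 (Zc T) = Ohm 2 (Zc T)

namespace Hyp

variable (h : Hyp G T x)
include h

theorem nsol : ¬ Sol G := fun e =>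
  (der_lt e fun e' => h.ha (e' ▸ ab_bot)).ne (h.hs.perfect h.ha)

theorem two : 2 ∣ ♯G := by_contra fun e => h.nsol (Part.sol_of_odd e)

omit h in
theorem ZT : Ohm 2 (Zc T) ≤ T := (Ohm_le 2 _).trans (Zc_le T)

omit h in
theorem ZC : Ohm 2 (Zc T) ≤ 𝐂(T) := (Ohm_le 2 _).trans inf_le_right

omit h in
theorem Zel : IsElementaryAbelian 2 (Ohm 2 (Zc T)) := Ohm_abelem 2 (Zc_ab T)

omit h in
theorem NZ : 𝐍(T) ≤ 𝐍(Ohm 2 (Zc T)) := (norm_le_norm_Zc T).trans (norm_le_norm_Ohm 2 _)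

omit h in
theorem sq (hz : z ∈ Ohm 2 (Zc T)) : z * z = 1 := (pow_two z).symm.trans (Zel.2 z hz)

theorem Z_ne : Ohm 2 (Zc T) ≠ ⊥ :=
  haveI := Fact.mk Nat.prime_two
  Ohm_ne_bot (h.hT.isPGroup.to_le (Zc_le T)) (Zc_ne_bot h.hT.nil (h.hT.ne_bot h.two))

theorem TC (hz : z ∈ Ohm 2 (Zc T)) : T ≤ G ⊓ 𝐂[z] :=
  le_inf h.hT.le (le_cent1_iff.2 (ZC hz))

theorem eight (hY : Y ≤ T) (h0 : Y ≠ ⊥) (hn : x ∈ 𝐍(Y)) : 2 ^ 3 ≤ ♯Y := by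
  have := Fact.mk Nat.prime_two
  have h2 := h.hT.isPGroup.to_le hY
  have h1 := regular_norm_dvd_pred (zpowers_le.2 hn) (semiregular_prime
    (by rw [Nat.card_zpowers]; exact h.hp)
    (fpf (H := G) (by rw [cent_zpowers]; exact h.ho) h2 (hY.trans h.hT.le)))
  rw [Nat.card_zpowers] at h1
  have h5 := five_le h.hp h.hx h.hc h.ho h.hs h.ha h.two
  have h6 := one_lt_card h0
  have h7 := Nat.le_of_dvd (by omega) h1
  obtain ⟨n, hn⟩ := h2.exists_card_eq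
  rw [hn] at h7 ⊢
  refine Nat.pow_le_pow_right two_pos (by_contra fun e => ?_)
  have : 2 ^ n ≤ 2 ^ 2 := Nat.pow_le_pow_right two_pos (by omega)
  omega

theorem norm_ne (hY : Y ≤ G) (h0 : Y ≠ ⊥) (hs : Sol Y) : G ⊓ 𝐍(Y) ≠ G := fun e =>
  (h.hs Y ⟨hY, inf_eq_left.1 e⟩).elim h0 fun e' => h.nsol (e' ▸ hs)

theorem xnorm (hn : x ∈ 𝐍(Y)) : x ∈ 𝐍(G ⊓ 𝐍(Y)) := mem_norm_inf h.hx (le_norm_self _ hn)

theorem sol_norm (hY : Y ≤ G) (h0 : Y ≠ ⊥) (hs : Sol Y) (hn : x ∈ 𝐍(Y)) : Sol (G ⊓ 𝐍(Y)) :=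
  h.hmin _ inf_le_left (h.norm_ne hY h0 hs) (h.xnorm hn)

theorem cop (hH : H ≤ G) : (♯H).Coprime (orderOf x) := h.hc.coprime_dvd_left (card_dvd hH)

theorem odd (hH : H ≤ G) : Odd ♯(H ⊓ 𝐂[x]) := h.ho.of_dvd_nat (card_dvd (inf_le_inf_right _ hH))

omit h in
theorem O_le_cent (hY : Y ≤ H) (h2 : IsPGroup 2 Y) (hn : H ≤ 𝐍(Y)) : Op' 2 H ≤ 𝐂(Y) :=
  haveI := Fact.mk Nat.prime_two
  le_cent_of_coprime ((Opi_le _ _).trans hn) (hY.trans (Opi_normal _ _).norm)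
    (coprime_of_isPGroup h2 (Op'_piGrp 2 _)).symm

/-- `N(Z) = C(Z) C_{N(Z)}(x)` -/
theorem dec (hg : g ∈ G ⊓ 𝐍(Ohm 2 (Zc T))) : ∃ e ∈ G ⊓ 𝐍(Ohm 2 (Zc T)) ⊓ 𝐂[x],
    ∀ z ∈ Ohm 2 (Zc T), g * z * g⁻¹ = e * z * e⁻¹ := by
  have := Fact.mk Nat.prime_two
  have h2 := h.hT.isPGroup.to_le (ZT (T := T))
  have hs := h.sol_norm (ZT.trans h.hT.le) h.Z_ne (sol_of_isPGroup h2) (NZ h.hxT)
  have hn := h.xnorm (NZ h.hxT)
  have hT := h.hT.mono (le_inf h.hT.le ((le_norm_self T).trans NZ)) inf_le_left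
  have h1 := Op'p_sup_cent_x h.hp hn hs (h.cop inf_le_left) (h.odd inf_le_left)
  obtain ⟨a, ha, e, he, rfl⟩ := (mem_sup_norm_left
    (inf_le_left.trans (Op'p_normal 2 _).norm)).1 (h1.ge hg)
  rw [← plength1_Sylow_prod hT (plen1_x h.hp hn hs (h.cop inf_le_left) (h.odd inf_le_left))] at ha
  have h3 : a ∈ 𝐂(Ohm 2 (Zc T)) := sup_le (O_le_cent (ZT.trans hT.le) h2 inf_le_right)
    (le_cent_symm ZC) ha
  refine ⟨e, he, fun z hz => ?_⟩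
  rw [← mem_cent_iff_conj.1 h3 _ (conj_mem_of_norm he.1.2 hz)]
  group

/-- control of fusion -/
theorem fus (hH : H ≤ G) (hTH : T ≤ H) (hz : z ∈ Ohm 2 (Zc T)) (hg : g ∈ H)
    (hw : g * z * g⁻¹ ∈ T) : ∃ n ∈ H ⊓ 𝐍(Ohm 2 (Zc T)), g * z * g⁻¹ = n * z * n⁻¹ := by
  have := Fact.mk Nat.prime_two
  have h0 : Syl 2 (g •ᶜ T) G := by
    have := h.hT.conj g
    rwa [conj_eq_of_mem (hH hg)] at this
  have h1 : Syl 2 (g •ᶜ T) (H ⊓ 𝐂[g * z * g⁻¹]) := h0.mono (le_inf (conj_le_of_mem hg hTH)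
    (by rw [cent1_conj]; exact conj_mono g ((h.TC hz).trans inf_le_right))) (inf_le_left.trans hH)
  obtain ⟨c, hc, h2⟩ := h1.exists_le_conj' (le_inf (ZT.trans hTH) (ZC.trans (cent_le_cent1 hw)))
    (h.hT.isPGroup.to_le ZT)
  rw [conj_conj, le_conj_iff_inv_conj_le] at h2
  have h3 := conj_eq_self_iff.1 (h.wc _ (inv_mem (hH (mul_mem hc.1 hg))) h2)
  refine ⟨c * g, mem_inf.2 ⟨mul_mem (mem_inf.1 hc).1 hg, inv_mem_iff.1 h3⟩, ?_⟩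
  rw [← mem_cent1_iff_conj.1 hc.2]
  group

theorem sc (hz : z ∈ Ohm 2 (Zc T)) (hg : g ∈ G) (hw : g * z * g⁻¹ ∈ T) :
    g * z * g⁻¹ ∈ Ohm 2 (Zc T) := by
  obtain ⟨n, hn, e⟩ := h.fus le_rfl h.hT.le hz hg hw
  exact e ▸ conj_mem_of_norm hn.2 hz

/-- `C(z) = O(C(z)) N(Y)` for an invariant `Y` -/
theorem exY (hz : z ∈ Ohm 2 (Zc T)) : ∃ Y ≤ Ohm 2 (Zc T), z ∈ Y ∧ x ∈ 𝐍(Y) ∧
    G ⊓ 𝐂[z] ≤ th G z ⊔ G ⊓ 𝐂[z] ⊓ 𝐍(Y) := by
  have := Fact.mk Nat.prime_two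
  set D := G ⊓ 𝐂[z] ⊓ 𝐍(Ohm 2 (Zc T)) ⊓ 𝐂[x] with hD
  have hTH := h.TC hz
  have hT := h.hT.mono hTH inf_le_left
  refine ⟨Ohm 2 (Zc T) ⊓ 𝐂(D), inf_le_left, ⟨hz, le_cent1_iff.1 fun d hd => hd.1.1.2⟩,
    mem_norm_inf (NZ h.hxT) (le_norm_self _ (le_cent1_iff.1 inf_le_right)), ?_⟩
  set Y := Ohm 2 (Zc T) ⊓ 𝐂(D) with hY
  have hYT : Y ≤ T := inf_le_left.trans ZT
  have key : ∀ y ∈ Y, ∀ g ∈ G ⊓ 𝐂[z], g * y * g⁻¹ * y⁻¹ ∈ th G z := fun y hy g hg => by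
    refine zstar (hTH (hYT hy)) (sq hy.1) (fun g hg e => ?_) hg
    have h1 : Syl 2 T (G ⊓ 𝐂[z] ⊓ 𝐂[y]) :=
      hT.mono (le_inf hTH ((h.TC hy.1).trans inf_le_right)) inf_le_left
    have h2 : g * y * g⁻¹ ∈ G ⊓ 𝐂[z] ⊓ 𝐂[y] :=
      mem_inf.2 ⟨mul_mem (mul_mem hg (hTH (hYT hy))) (inv_mem hg), mem_cent1.2 e.symm⟩
    obtain ⟨k, hk, h3⟩ := h1.exists_conj_le (zpowers_le.2 h2) (by
      rw [← conj_zpowers, isPGroup_conj]; exact hT.isPGroup.to_le (zpowers_le.2 (hYT hy)))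
    have h4 : k * g * y * (k * g)⁻¹ ∈ T := by
      have := h3 (conj_mem_conj (mem_zpowers _))
      rwa [show k * (g * y * g⁻¹) * k⁻¹ = k * g * y * (k * g)⁻¹ by group] at this
    obtain ⟨n, hn, e1⟩ := h.fus inf_le_left hTH hy.1 (mul_mem hk.1 hg) h4
    obtain ⟨d, hd, e2⟩ := h.dec (g := n) ⟨hn.1.1, hn.2⟩
    have h5 : d ∈ D := ⟨⟨⟨hd.1.1, mem_cent1_iff_conj.2
      ((e2 z hz).symm.trans (mem_cent1_iff_conj.1 hn.1.2))⟩, hd.1.2⟩, hd.2⟩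
    have h6 : d * y * d⁻¹ = y := by rw [mem_cent_iff.1 hy.2 d h5, mul_inv_cancel_right]
    rw [e2 y hy.1, h6] at e1
    have h7 := mem_cent1_iff_conj.1 (inv_mem (mem_inf.1 hk).2)
    calc g * y * g⁻¹ = k⁻¹ * (k * g * y * (k * g)⁻¹) * k⁻¹⁻¹ := by group
      _ = y := by rw [e1, h7]
  have hN : (th G z ⊔ Y) ⊴ (G ⊓ 𝐂[z]) := by
    refine ⟨sup_le (Opi_le _ _) (hYT.trans hTH), fun g hg => mem_norm_of_conj_le ?_⟩
    rw [conj_sup, (Opi_normal _ _).conj_eq hg]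
    refine sup_le le_sup_left (conj_le_iff.2 fun y hy => ?_)
    rw [← inv_mul_cancel_right (g * y * g⁻¹) y]
    exact mul_mem (mem_sup_left (key y hy g hg)) (mem_sup_right hy)
  have hS := hT.normal_inf hN
  rw [sup_inf_of_le_right (.inr ((hYT.trans hTH).trans (Opi_normal _ _).norm)) hYT,
    inf_eq_bot_of_coprime_card (coprime_of_isPGroup hT.isPGroup (Op'_piGrp 2 _)).symm,
    bot_sup_eq] at hS
  refine (hS.frattini hN).sup_eq.ge.trans (sup_le (sup_le le_sup_left ?_) le_sup_right)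
  exact (le_inf (hYT.trans hTH) (le_norm_self Y)).trans le_sup_right

omit h in
theorem ne_bot (hz : z ∈ Y) (z1 : z ≠ 1) : Y ≠ ⊥ := fun e => z1 (mem_bot.1 (e ▸ hz))

theorem solC (hz : z ∈ Ohm 2 (Zc T)) (z1 : z ≠ 1) : Sol (G ⊓ 𝐂[z]) := by
  have := Fact.mk Nat.prime_two
  obtain ⟨Y, hY, h1, h2, h3⟩ := h.exY hz
  have h4 := h.sol_norm (hY.trans (ZT.trans h.hT.le)) (ne_bot h1 z1)
    (sol_of_le h.hT.sol (hY.trans ZT)) h2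
  exact sol_of_le (sol_sup ((inf_le_left (b := 𝐍(Y))).trans (Opi_normal _ _).norm)
    (sol_of_le h4 (inf_le_inf_right _ inf_le_left))
    (Part.sol_of_odd (not_dvd_Op' _))) (h3.trans (sup_comm _ _).le)

theorem bal (ha : a ∈ Ohm 2 (Zc T)) (hb : b ∈ Ohm 2 (Zc T)) (b1 : b ≠ 1) :
    th G a ⊓ 𝐂[b] ≤ th G b := by
  have := Fact.mk Nat.prime_two
  have h1 : zpowers a ≤ T := zpowers_le.2 (ZT ha)
  refine le_trans ?_ (p'core_cent_pgroup (h1.trans (h.TC hb)) (h.hT.isPGroup.to_le h1)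
    (h.solC hb b1))
  rw [cent_zpowers]
  have h2 : th G a ≤ G ⊓ 𝐂[a] := Opi_le _ _
  exact le_trans (le_inf inf_le_left (le_inf (inf_le_inf_right _ (h2.trans inf_le_left))
    (inf_le_left.trans (h2.trans inf_le_right))))
    (Opi_inf_le _ (inf_le_inf_right _ inf_le_left))

theorem KK_odd : ¬ 2 ∣ ♯(KK G (Ohm 2 (Zc T))) := by
  have hs : IsSig 2 (Ohm 2 (Zc T)) (th G) :=
    ⟨Nat.prime_two, Zel, h.eight ZT h.Z_ne (NZ h.hxT),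
      fun _ _ _ => (Opi_le _ _).trans inf_le_right, fun _ _ _ => not_dvd_Op' _,
      fun _ ha _ => (ZT.trans (h.TC ha)).trans (Opi_normal _ _).norm,
      fun _ _ _ => Part.sol_of_odd (not_dvd_Op' _), fun _ ha _ _ hb b1 => h.bal ha hb b1⟩
  obtain ⟨E, hE, h1⟩ := complete_two hs
  exact fun h2 => hE.cop (h2.trans (card_dvd (KK_le h1)))

theorem KK_eq (hY : Y ≤ Ohm 2 (Zc T)) (h0 : Y ≠ ⊥) (hn : x ∈ 𝐍(Y)) :
    KK G Y = KK G (Ohm 2 (Zc T)) := by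
  have := Fact.mk Nat.prime_two
  have h1 := abelem_of_le Zel hY
  refine le_antisymm (KK_le fun b hb b1 => th_le_KK (hY hb) b1) (KK_le fun a ha _ => ?_)
  exact coprime_abelian_gen_cent1 (abelem_ab h1) (ZN.not_isCyclic_of_card h1
    (lt_of_lt_of_le (by norm_num) (h.eight (hY.trans ZT) h0 hn)))
    (((hY.trans ZT).trans (h.TC ha)).trans (Opi_normal _ _).norm)
    (coprime_of_isPGroup (abelem_isPGroup h1) (Op'_piGrp 2 _)).symm fun _ hb b1 =>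
      (h.bal ha (hY hb) b1).trans (th_le_KK hb b1)

theorem exM : ∃ M ≤ G, M ≠ G ∧ ∀ z ∈ Ohm 2 (Zc T), z ≠ 1 → G ⊓ 𝐂[z] ≤ M := by
  have := Fact.mk Nat.prime_two
  by_cases e : KK G (Ohm 2 (Zc T)) = ⊥
  · refine ⟨G ⊓ 𝐍(T), inf_le_left, h.norm_ne h.hT.le (h.hT.ne_bot h.two) h.hT.sol,
      fun z hz z1 => ?_⟩
    obtain ⟨Y, hY, h1, h2, h3⟩ := h.exY hz
    have h4 : th G z = ⊥ := le_bot_iff.1 ((th_le_KK hz z1).trans e.le)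
    rw [h4, bot_sup_eq] at h3
    have hYT := hY.trans ZT
    have h5 := h.sol_norm (hYT.trans h.hT.le) (ne_bot h1 z1) (sol_of_le h.hT.sol hYT) h2
    have hT := h.hT.mono (le_inf h.hT.le
      (le_norm_of_le_cent (le_cent_symm (hY.trans ZC)))) inf_le_left
    have h6 := sup_norm_x h.hp (h.xnorm h2) h5 (h.cop inf_le_left) (h.odd inf_le_left) hT
    have h7 : G ⊓ 𝐂[z] ≤ G ⊓ 𝐍(Y) := h3.trans (inf_le_inf_right _ inf_le_left)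
    have h8 : Op' 2 (G ⊓ 𝐍(Y)) ≤ th G z := Opi_le_Opi h7 (le_inf ((Opi_le _ _).trans inf_le_left)
      ((O_le_cent (hYT.trans hT.le) (hT.isPGroup.to_le hYT) inf_le_right).trans (cent_le_cent1 h1)))
    rw [h4, le_bot_iff] at h8
    rw [h8, bot_sup_eq] at h6
    exact h7.trans (h6.ge.trans (inf_le_inf_right _ inf_le_left))
  · refine ⟨G ⊓ 𝐍(KK G (Ohm 2 (Zc T))), inf_le_left, h.norm_ne
      (KK_le fun _ _ _ => (Opi_le _ _).trans inf_le_left) e (Part.sol_of_odd h.KK_odd),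
      fun z hz z1 => le_inf inf_le_left ?_⟩
    obtain ⟨Y, hY, h1, h2, h3⟩ := h.exY hz
    refine h3.trans (sup_le (le_norm_of_le (th_le_KK hz z1)) fun g hg => ?_)
    rw [← h.KK_eq hY (ne_bot h1 z1) h2]
    exact mem_norm_KK (le_norm_self G hg.1.1) hg.2

theorem false : False := by
  have := Fact.mk Nat.prime_two
  obtain ⟨M, hM, hne, hC⟩ := h.exM
  obtain ⟨z, hz, z1⟩ := exists_mem_ne_one h.Z_ne
  have zG : z ∈ G := h.hT.le (ZT hz)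
  have hy : x * z * x⁻¹ ∈ Ohm 2 (Zc T) := conj_mem_of_norm (NZ h.hxT) hz
  have nc := fun g (hg : g ∈ G) => not_conj h.hx h.hc h.ho zG z1 (sq hz) hg
  have y1 : x * z * x⁻¹ ≠ 1 := fun e => z1 (by simpa using e)
  generalize x * z * x⁻¹ = y at hy nc y1
  have yG : y ∈ G := h.hT.le (ZT hy)
  obtain ⟨g, hg, hgM⟩ : ∃ g ∈ G, g * z * g⁻¹ ∉ M := by
    by_contra! h1
    have h2 : closure {w | ∃ g ∈ G, w = g * z * g⁻¹} ≤ M := by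
      rw [closure_le]; rintro _ ⟨g, hg, rfl⟩; exact h1 g hg
    refine (h.hs _ ⟨h2.trans hM, le_norm_closure ?_⟩).elim
      (ne_bot (subset_closure ⟨1, one_mem _, by group⟩) z1) fun e => hne (le_antisymm hM (e ▸ h2))
    rintro a ha _ ⟨g, hg, rfl⟩
    exact ⟨a * g, mul_mem ha hg, by group⟩
  have a2 : g * z * g⁻¹ * (g * z * g⁻¹) = 1 := by
    rw [show g * z * g⁻¹ * (g * z * g⁻¹) = g * (z * z) * g⁻¹ by group, sq hz]; group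
  have aG : g * z * g⁻¹ ∈ G := mul_mem (mul_mem hg zG) (inv_mem hg)
  have b2 := sq hy
  have sG : ∀ j : ℕ, (g * z * g⁻¹ * y) ^ j ∈ G := fun j => pow_mem (mul_mem aG yG) j
  have h2 : 2 ∣ orderOf (g * z * g⁻¹ * y) := by_contra fun e => by
    obtain ⟨j, hj⟩ := R1.exists_conj_of_odd a2 b2 e
    refine nc (((g * z * g⁻¹ * y) ^ j)⁻¹ * g) (mul_mem (inv_mem (sG j)) hg) ?_
    calc y = ((g * z * g⁻¹ * y) ^ j)⁻¹ * ((g * z * g⁻¹ * y) ^ j * y * ((g * z * g⁻¹ * y) ^ j)⁻¹) *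
        (g * z * g⁻¹ * y) ^ j := by group
      _ = _ := by rw [hj]; group
  obtain ⟨m, hm⟩ := h2
  have h3 : (g * z * g⁻¹ * y) ^ (2 * m) = 1 := hm ▸ pow_orderOf_eq_one _
  have u1 : (g * z * g⁻¹ * y) ^ m ≠ 1 := fun e => by
    have h4 := Nat.le_of_dvd (by have := orderOf_pos (g * z * g⁻¹ * y); omega)
      (orderOf_dvd_of_pow_eq_one e)
    have := orderOf_pos (g * z * g⁻¹ * y)
    omega
  have c1 := R1.commute_of_pow_sq a2 b2 h3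
  have c2 : Commute ((g * z * g⁻¹ * y) ^ m) (g * z * g⁻¹) := by
    have := ((Commute.refl (g * z * g⁻¹ * y)).pow_left m).mul_right c1
    rwa [mul_assoc _ y y, b2, mul_one] at this
  have h4 : ∃ w ∈ Ohm 2 (Zc T), ∃ c ∈ G, (g * z * g⁻¹ * y) ^ m * y = c * w * c⁻¹ := by
    rcases Nat.even_or_odd' m with ⟨j, rfl | rfl⟩
    · exact ⟨y, hy, _, sG j, (R1.pow_conj_right a2 b2 j).symm⟩
    · refine ⟨z, hz, _, mul_mem (sG j) hg, ?_⟩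
      rw [← R1.pow_conj_left a2 b2 j]; group
  have u2 : ((g * z * g⁻¹ * y) ^ m) ^ 2 = 1 := by rw [← pow_mul, mul_comm, h3]
  have uG := sG m
  generalize (g * z * g⁻¹ * y) ^ m = v at u1 c1 c2 h4 u2 uG
  obtain ⟨w, hw, c, hc, e⟩ := h4
  have hT := h.hT.mono (h.TC hy) inf_le_left
  obtain ⟨k, hk, h5⟩ := hT.exists_conj_le (zpowers_le.2 (mem_inf.2 ⟨uG, mem_cent1.2 c1⟩))
    (ZN.isPGroup_zpowers_inv (ZN.inv_of_sq u2 u1))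
  have h6 : k * v * k⁻¹ ∈ T := h5 (conj_mem_conj (mem_zpowers v))
  have kG := (mem_inf.1 hk).1
  have h7 : k * c * w * (k * c)⁻¹ = k * v * k⁻¹ * y := by
    calc _ = k * (c * w * c⁻¹) * k⁻¹ := by group
      _ = k * v * k⁻¹ * (k * y * k⁻¹) := by rw [← e]; group
      _ = _ := by rw [mem_cent1_iff_conj.1 (mem_inf.1 hk).2]
  have h8 := h.sc hw (mul_mem kG hc) (h7 ▸ mul_mem h6 (ZT hy))
  rw [h7, mul_mem_cancel_right hy] at h8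
  have h9 := hC _ h8 (fun e => u1 (by simpa using e)) (x := k * (g * z * g⁻¹) * k⁻¹) (mem_inf.2
    ⟨mul_mem (mul_mem kG aG) (inv_mem kG), by
      rw [cent1_conj]; exact conj_mem_conj (mem_cent1.2 c2.symm)⟩)
  have kM := hC y hy y1 hk
  rw [mul_mem_cancel_right (inv_mem kM), mul_mem_cancel_left kM] at h9
  exact hgM h9

end Hyp

end Fin

/-- `Ω₁(Z(T))` is not weakly closed in `T` -/
theorem fin (hp : (orderOf x).Prime) (hx : x ∈ 𝐍(G)) (hc : (♯G).Coprime (orderOf x))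
    (ho : Odd ♯(G ⊓ 𝐂[x])) (hs : Smp G) (ha : ¬ Ab G)
    (hmin : ∀ H ≤ G, H ≠ G → x ∈ 𝐍(H) → Sol H) (hT : Syl 2 T G) (hxT : x ∈ 𝐍(T))
    (wc : ∀ g ∈ G, g •ᶜ Ohm 2 (Zc T) ≤ T → g •ᶜ Ohm 2 (Zc T) = Ohm 2 (Zc T)) : False :=
  Fin.Hyp.false ⟨hp, hx, hc, ho, hs, ha, hmin, hT, hxT, wc⟩

end Cfsg.Agent.CE
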