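import Cfsg.Agent.Lib.CE.Cfg

/-!
# `CE`, package FF2: transvections, three points
-/

set_option autoImplicit false
set_option linter.unusedSectionVars false

namespace Cfsg.Agent.CE

open Subgroup Cfsg.Agent.Coprime Cfsg.Agent.OO
open scoped Pointwise

universe u

variable {X : Type u} [Group X] [Finite X] {A C K P Q R W Z : Subgroup X} {a b c g k l m r s w y : X}

theorem mul_mem_of_idx2 (hC : C ≤ W) (h : ♯W = 2 * ♯C) (hy : y ∈ W) (hw : w ∈ W) (y1 : y ∉ C)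
    (w1 : w ∉ C) : y * w ∈ C := by
  have h1 : (C.subgroupOf W).index = 2 := by
    have h2 := card_mul_relIndex hC
    rw [h, mul_comm 2] at h2
    exact Nat.eq_of_mul_eq_mul_left (card_pos' C) h2
  exact (mul_mem_iff_of_index_two h1 (a := ⟨y, hy⟩) (b := ⟨w, hw⟩)).2 (iff_of_false y1 w1)

/-- the data of the case `q = 2` -/
structure F2 (K W Z Q A : Subgroup X) : Prop where
  hW : IsElementaryAbelian 2 W
  KW : K ≤ 𝐍(W)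
  ZW : Z ≤ W
  QW : Q ≤ 𝐂(W)
  KQ : K ≤ 𝐍(Q)
  AK : A ≤ K
  hA : IsElementaryAbelian 2 A
  AZ : A ≤ 𝐂(Z)
  nAQ : ¬ A ≤ Q
  p1 : ∀ k ∈ K, ∀ a ∈ K, a ^ 2 = 1 → a ∈ 𝐍(k •ᶜ Z) → a ∈ 𝐂(k •ᶜ Z)
  hu : ∀ k ∈ K, A ≤ 𝐂(k •ᶜ Z) → k •ᶜ Z = Z
  ca : ∀ a ∈ A, a ∉ Q → W ⊓ 𝐂[a] ≤ W ⊓ 𝐂(A)
  idx : ♯W = 2 * ♯(W ⊓ 𝐂(A) : Subgroup X)
  ker : ∀ P ≤ K, IsPGroup 2 P → (∀ k ∈ K, P ≤ 𝐍(k •ᶜ Z)) → P ≤ Q

namespace F2

variable (h : F2 K W Z Q A)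
include h

theorem conj (hk : k ∈ K) : F2 K W (k •ᶜ Z) Q (k •ᶜ A) := by
  have eW := conj_eq_of_mem_norm (h.KW hk)
  have eQ := conj_eq_of_mem_norm (h.KQ hk)
  have eC : W ⊓ 𝐂(k •ᶜ A) = k •ᶜ (W ⊓ 𝐂(A)) := by rw [conj_inf, cent_conj, eW]
  refine ⟨h.hW, h.KW, conj_le_of_mem_norm (h.KW hk) h.ZW, h.QW, h.KQ, conj_le_of_mem hk h.AK,
    abelem_conj.2 h.hA, conj_le_cent_conj.2 h.AZ, fun e => h.nAQ (conj_le_conj_iff.1 (eQ.symm ▸ e)),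
    fun l hl => ?_, fun l hl e => ?_, fun a ha a1 => ?_, by rw [eC, card_conj, h.idx],
    fun P hP h2 e => h.ker P hP h2 fun l hl => ?_⟩
  · rw [conj_conj]; exact h.p1 _ (mul_mem hl hk)
  · have := h.hu (k⁻¹ * l * k) (mul_mem (mul_mem (inv_mem hk) hl) hk) (by
      rw [← conj_le_cent_conj (g := k), conj_conj, show k * (k⁻¹ * l * k) = l * k by group,
        ← conj_conj]; exact e)
    rw [mul_assoc, ← conj_conj, ← conj_conj, eq_comm, ← conj_eq_iff_eq_inv_conj] at this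
    exact this.symm
  · obtain ⟨b, hb, rfl⟩ := mem_conj_iff_exists.1 ha
    rw [eC, cent1_conj]
    nth_rewrite 1 [← eW]
    rw [← conj_inf]
    exact conj_mono k (h.ca b hb fun e => a1 (conj_mem_of_norm (h.KQ hk) e))
  · have := e (l * k⁻¹) (mul_mem hl (inv_mem hk))
    rwa [conj_conj, inv_mul_cancel_right] at this

theorem ZC : Z ≤ W ⊓ 𝐂(A) := le_inf h.ZW (le_cent_symm h.AZ)

theorem eq_of_le (hk : k ∈ K) (e : k •ᶜ Z ≤ W ⊓ 𝐂(A)) : k •ᶜ Z = Z :=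
  h.hu k hk (le_cent_symm (e.trans inf_le_right))

/-- an element of `A - Q` fixes only the point `Z` -/
theorem eq_of_norm (ha : a ∈ A) (a1 : a ∉ Q) (hk : k ∈ K) (e : a ∈ 𝐍(k •ᶜ Z)) : k •ᶜ Z = Z :=
  h.eq_of_le hk ((le_inf (h.conj hk).ZW (le_cent1_iff.2
    (h.p1 k hk a (h.AK ha) (h.hA.2 a ha) e))).trans (h.ca a ha a1))

theorem conj_eq (ha : a ∈ A) (hy : y ∈ W) (y1 : y ∉ W ⊓ 𝐂(A)) (hc : c ∈ W) :
    a * c * a⁻¹ = c ∨ a * c * a⁻¹ = a * y * a⁻¹ * y⁻¹ * c := by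
  have f : ∀ d ∈ W ⊓ 𝐂(A), a * d * a⁻¹ = d := fun d hd => by
    rw [mem_cent_iff.1 hd.2 a ha, mul_inv_cancel_right]
  by_cases e : c ∈ W ⊓ 𝐂(A)
  · exact .inl (f c e)
  · have h1 := f _ (mul_mem_of_idx2 inf_le_left h.idx (inv_mem hy) hc (by rwa [inv_mem_iff]) e)
    refine .inr ?_
    rw [mul_assoc _ y⁻¹, ← h1]
    group

theorem key (ha : a ∈ A) (a1 : a ∉ Q) (hy : y ∈ W) (y1 : y ∉ W ⊓ 𝐂(A)) (hk : k ∈ K)
    (e : a * y * a⁻¹ * y⁻¹ ∈ W ⊓ 𝐂(k •ᶜ A)) : k •ᶜ Z = Z := by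
  have h1 : a •ᶜ (W ⊓ 𝐂(k •ᶜ A)) ≤ W ⊓ 𝐂(k •ᶜ A) := conj_le_iff.2 fun c hc =>
    (h.conj_eq ha hy y1 hc.1).elim (fun e' => e'.symm ▸ hc) fun e' => e'.symm ▸ mul_mem e hc
  exact h.eq_of_norm ha a1 hk (conj_eq_self_iff.1 ((h.conj hk).eq_of_le (h.AK ha)
    ((conj_mono a (h.conj hk).ZC).trans h1)))

theorem exists_w : ∃ w ∈ W, w ∉ W ⊓ 𝐂(A) := by
  by_contra! e
  have h1 := card_le (show W ≤ W ⊓ 𝐂(A) from e)
  have := h.idx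
  have := card_pos' (W ⊓ 𝐂(A))
  omega

theorem exists_a : ∃ a ∈ A, a ∉ Q := SetLike.not_le_iff_exists.1 h.nAQ

/-- there are only three points -/
theorem three (ha : a ∈ A) (a1 : a ∉ Q) (hl : l ∈ K) (hm : m ∈ K) (l1 : l •ᶜ Z ≠ Z)
    (m1 : m •ᶜ Z ≠ Z) (ml : m •ᶜ Z ≠ l •ᶜ Z) : m •ᶜ Z = a •ᶜ l •ᶜ Z := by
  have hM := h.conj hm
  obtain ⟨b, hb, b1⟩ := hM.exists_a
  obtain ⟨w, hw, w1⟩ := hM.exists_w
  have key : ∀ k ∈ K, b * w * b⁻¹ * w⁻¹ ∈ W ⊓ 𝐂(k •ᶜ A) → k •ᶜ Z = m •ᶜ Z := fun k hk e => by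
    have := hM.key hb b1 hw w1 (mul_mem hk (inv_mem hm)) (by rwa [conj_conj, inv_mul_cancel_right])
    rwa [conj_conj, inv_mul_cancel_right] at this
  have hy : b * w * b⁻¹ * w⁻¹ ∈ W := mul_mem (conj_mem_of_norm (h.KW (hM.AK hb)) hw) (inv_mem hw)
  generalize b * w * b⁻¹ * w⁻¹ = y at key hy
  have y1 : y ∉ W ⊓ 𝐂(A) := fun e => m1 (by simpa using (key 1 (one_mem _) (by simpa using e)).symm)
  have y2 : y ∉ W ⊓ 𝐂(l •ᶜ A) := fun e => ml (key l hl e).symm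
  have h1 := mul_mem_of_idx2 inf_le_left (h.conj hl).idx
    (mul_mem (conj_mem_of_norm (h.KW (h.AK ha)) hy) (inv_mem hy)) hy
    (fun e => l1 (h.key ha a1 hy y1 hl e)) y2
  rw [inv_mul_cancel_right] at h1
  have a2 : a⁻¹ = a := inv_eq_of_mul_eq_one_right ((pow_two a).symm.trans (h.hA.2 a ha))
  rw [conj_conj]
  refine (key _ (mul_mem (h.AK ha) hl) ⟨hy, ?_⟩).symm
  rw [← conj_conj, cent_conj]
  exact mem_conj.2 (by have := h1.2; rwa [a2] at this ⊢)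

/-- an element fixing two points fixes all points -/
theorem fix_all (hg : g ∈ K) (hl : l ∈ K) (l1 : l •ᶜ Z ≠ Z) (g1 : g ∈ 𝐍(Z)) (g2 : g ∈ 𝐍(l •ᶜ Z))
    (hm : m ∈ K) : g ∈ 𝐍(m •ᶜ Z) := by
  by_cases m1 : m •ᶜ Z = Z
  · rwa [m1]
  by_cases ml : m •ᶜ Z = l •ᶜ Z
  · rwa [ml]
  obtain ⟨a, ha, a1⟩ := h.exists_a
  rw [← conj_eq_self_iff, conj_conj, h.three ha a1 hl hm l1 m1 ml]
  refine h.three ha a1 hl (mul_mem hg hm) l1 (fun e => m1 ?_) fun e => ml ?_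
  · rw [← conj_inj (g := g), conj_conj, e, conj_eq_of_mem_norm g1]
  · rw [← conj_inj (g := g), conj_conj, e, conj_eq_of_mem_norm g2]

/-- a 2-subgroup fixing two points lies in `Q` -/
theorem le_Q (hP : P ≤ K) (h2 : IsPGroup 2 P) (hk : k ∈ K) (hl : l ∈ K) (e : k •ᶜ Z ≠ l •ᶜ Z)
    (h1 : P ≤ 𝐍(k •ᶜ Z)) (h3 : P ≤ 𝐍(l •ᶜ Z)) : P ≤ Q :=
  h.ker P hP h2 fun m hm g hg => by
    have := (h.conj hk).fix_all (hP hg) (mul_mem hl (inv_mem hk))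
      (by rw [conj_conj, inv_mul_cancel_right]; exact e.symm) (h1 hg)
      (by rw [conj_conj, inv_mul_cancel_right]; exact h3 hg) (mul_mem hm (inv_mem hk))
    rwa [conj_conj, inv_mul_cancel_right] at this

section R

variable (RK : R ≤ K) (h2 : IsPGroup 2 R) (RZ : R ≤ 𝐍(Z))
include RK h2 RZ

theorem mem_Q (hr : r ∈ R) (hl : l ∈ K) (l1 : l •ᶜ Z ≠ Z) (e : r ∈ 𝐍(l •ᶜ Z)) : r ∈ Q :=
  h.le_Q (zpowers_le.2 (RK hr)) (h2.to_le (zpowers_le.2 hr)) (one_mem _) hl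
    (by rw [one_conj]; exact l1.symm) (by rw [one_conj]; exact zpowers_le.2 (RZ hr))
    (zpowers_le.2 e) (mem_zpowers r)

theorem mem_or (AR : A ≤ R) (hs : s ∈ K) (s1 : s •ᶜ Z ≠ Z) (ha : a ∈ A) (a1 : a ∉ Q) (hr : r ∈ R) :
    r ∈ Q ∨ a * r ∈ Q := by
  by_cases e : r ∈ 𝐍(s •ᶜ Z)
  · exact .inl (h.mem_Q RK h2 RZ hr hs s1 e)
  refine .inr (h.mem_Q RK h2 RZ (mul_mem (AR ha) hr) hs s1 ?_)
  have h1 := h.three ha a1 hs (mul_mem (RK hr) hs) s1 (fun e' => s1 (by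
    rw [← conj_inj (g := r), conj_conj, e', conj_eq_of_mem_norm (RZ hr)]))
    (by rw [← conj_conj]; exact fun e' => e (conj_eq_self_iff.1 e'))
  rw [← conj_eq_self_iff, ← conj_conj, conj_conj r, h1, conj_conj a a, ← pow_two, h.hA.2 a ha,
    one_conj]

theorem relIndex (AR : A ≤ R) (hs : s ∈ K) (s1 : s •ᶜ Z ≠ Z) : Q.relIndex R = 2 := by
  obtain ⟨a, ha, a1⟩ := h.exists_a
  refine index_eq_two_iff'.2 ⟨⟨a, AR ha⟩, fun r => ?_⟩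
  rcases h.mem_or RK h2 RZ AR hs s1 ha a1 r.2 with e | e
  · exact .inr ⟨e, fun e' => a1 ((mul_mem_cancel_right e).1 e')⟩
  · exact .inl ⟨e, fun e' => a1 ((mul_mem_cancel_right (show (r : X) ∈ Q from e')).1 e)⟩

theorem cent1_eq (AR : A ≤ R) (hs : s ∈ K) (s1 : s •ᶜ Z ≠ Z) (hr : r ∈ R) (r1 : r ∉ Q) :
    W ⊓ 𝐂[r] = W ⊓ 𝐂(A) := by
  obtain ⟨a, ha, a1⟩ := h.exists_a
  have h1 := h.QW ((h.mem_or RK h2 RZ AR hs s1 ha a1 hr).resolve_left r1)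
  refine le_antisymm (le_trans (fun w hw => mem_inf.2 ⟨hw.1, ?_⟩) (h.ca a ha a1))
    fun w hw => ⟨hw.1, ?_⟩
  · exact mem_cent1_comm.1 ((Subgroup.mul_mem_cancel_right _ (mem_cent1_comm.1 hw.2)).1
      (cent_le_cent1 hw.1 h1))
  · exact mem_cent1_comm.1 ((mul_mem_cancel_left (mem_cent1_comm.1 (cent_le_cent1 ha hw.2))).1
      (cent_le_cent1 hw.1 h1))

theorem cent_eq (AR : A ≤ R) (hs : s ∈ K) (s1 : s •ᶜ Z ≠ Z) : W ⊓ 𝐂(R) = W ⊓ 𝐂(A) := by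
  refine le_antisymm (inf_le_inf_left _ (cent_anti AR)) fun w hw => ⟨hw.1, ?_⟩
  refine mem_cent_iff.2 fun r hr => ?_
  by_cases e : r ∈ Q
  · exact (mem_cent_iff.1 (h.QW e) w hw.1).symm
  · exact (mem_cent1.1 ((h.cent1_eq RK h2 RZ AR hs s1 hr e).ge hw).2).symm

end R

end F2

end Cfsg.Agent.CE
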