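import Cfsg.Agent.Lib.CE.Cfg
import Cfsg.Agent.Lib.CE.Pts

/-!
# `SEL`: selection of the configuration
-/

set_option autoImplicit false
set_option linter.unusedSectionVars false

namespace Cfsg.Agent.CE

open Subgroup Cfsg.Agent.OO Cfsg.Agent.ZN
open scoped Pointwise

universe u

variable {X : Type u} [Group X] [Finite X] {G T U I A B Y : Subgroup X} {g : X}

namespace Sel

/-- the largest order of an elementary abelian subgroup -/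
noncomputable def mx (I : Subgroup X) : ℕ := ♯(Transfer.exists_mem_maxElem (p := 2) I).choose

theorem le_mx (h : A ≤ I) (hA : IsElementaryAbelian 2 A) : ♯A ≤ mx I :=
  (Transfer.exists_mem_maxElem (p := 2) I).choose_spec.2.2 A h hA

theorem card_eq (h : A ∈ Transfer.maxElem 2 I) : ♯A = mx I :=
  le_antisymm (le_mx h.1 h.2.1) (h.2.2 _ (Transfer.exists_mem_maxElem (p := 2) I).choose_spec.1
    (Transfer.exists_mem_maxElem (p := 2) I).choose_spec.2.1)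

theorem mem_of (h : A ≤ I) (hA : IsElementaryAbelian 2 A) (hc : mx I ≤ ♯A) :
    A ∈ Transfer.maxElem 2 I := ⟨h, hA, fun _ h1 h2 => (le_mx h1 h2).trans hc⟩

theorem mx_mono (h : U ≤ I) : mx U ≤ mx I := by
  obtain ⟨A, hA⟩ := Transfer.exists_mem_maxElem (p := 2) U
  rw [← card_eq hA]
  exact le_mx (hA.1.trans h) hA.2.1

theorem mx_conj_le (g : X) (I : Subgroup X) : mx I ≤ mx (g •ᶜ I) := by
  obtain ⟨A, hA⟩ := Transfer.exists_mem_maxElem (p := 2) I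
  rw [← card_eq hA, ← card_conj g A]
  exact le_mx (conj_mono g hA.1) (abelem_conj.2 hA.2.1)

theorem mx_conj (g : X) (I : Subgroup X) : mx (g •ᶜ I) = mx I := by
  refine le_antisymm ?_ (mx_conj_le g I)
  have := mx_conj_le g⁻¹ (g •ᶜ I)
  rwa [conj_conj, inv_mul_cancel, conj_eq_of_mem (one_mem _)] at this

theorem mx_JJ (I : Subgroup X) : mx (JJ I) = mx I := by
  refine le_antisymm (mx_mono (JJ_le I)) ?_
  obtain ⟨A, hA⟩ := Transfer.exists_mem_maxElem (p := 2) I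
  rw [← card_eq hA]
  exact le_mx (le_JJ hA) hA.2.1

theorem JJ_conj (g : X) (I : Subgroup X) : JJ (g •ᶜ I) = g •ᶜ JJ I :=
  (Transfer.conj_smul_thompsonSubgroupOf g I).symm

theorem JJ_le_JJ (h : U ≤ I) (hm : mx I ≤ mx U) : JJ U ≤ JJ I :=
  JJ_le_iff.2 fun _ hA => le_JJ (mem_of (hA.1.trans h) hA.2.1 (hm.trans (card_eq hA).ge))

theorem le_JJ_of (hY : IsElementaryAbelian 2 Y) (h : Y ≤ Zc I) : Y ≤ JJ I := by
  obtain ⟨A, hA⟩ := Transfer.exists_mem_maxElem (p := 2) I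
  exact (Transfer.le_of_mem_maxElem hA (h.trans (Zc_le I)) hY
    (le_cent_symm (hA.1.trans (le_cent_symm (h.trans (Zc_le_cent I)))))).trans (le_JJ hA)

theorem Zt_conj (g : X) (T : Subgroup X) : Zt (g •ᶜ T) = g •ᶜ Zt T := by
  rw [Zt, Zc_conj, Ohm_conj]

theorem Zt_abelem (T : Subgroup X) : IsElementaryAbelian 2 (Zt T) := Ohm_abelem 2 (Zc_ab _)

theorem Zt_le (T : Subgroup X) : Zt T ≤ T := (Ohm_le _ _).trans (Zc_le T)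

theorem le_cent_Zt (T : Subgroup X) : T ≤ 𝐂(Zt T) :=
  le_cent_symm ((Ohm_le _ _).trans (Zc_le_cent T))

theorem pt_abelem (h : Pt G T Y) : IsElementaryAbelian 2 Y := by
  obtain ⟨g, -, rfl⟩ := h
  exact abelem_conj.2 (Zt_abelem T)

theorem pt_conj (h : Pt G T Y) (hg : g ∈ G) : Pt G T (g •ᶜ Y) := by
  obtain ⟨k, hk, rfl⟩ := h
  exact ⟨g * k, mul_mem hg hk, conj_conj _ _ _⟩

theorem pt_self (G T : Subgroup X) : Pt G T (Zt T) :=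
  ⟨1, one_mem _, (conj_eq_of_mem (one_mem _)).symm⟩

theorem ii_conj (h : II G T I) (hg : g ∈ G) : II G T (g •ᶜ I) := by
  obtain ⟨h1, h2, Y₁, Y₂, p1, p2, ne, l1, l2⟩ := h
  refine ⟨conj_le_of_mem hg h1, isPGroup_conj.2 h2, g •ᶜ Y₁, g •ᶜ Y₂, pt_conj p1 hg, pt_conj p2 hg,
    fun e => ne (conj_inj.1 e), ?_, ?_⟩ <;> rw [Zc_conj]
  · exact conj_mono g l1
  · exact conj_mono g l2

theorem ii_JJ (h : II G T I) : II G T (JJ I) := by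
  obtain ⟨h1, h2, Y₁, Y₂, p1, p2, ne, l1, l2⟩ := h
  refine ⟨(JJ_le I).trans h1, h2.to_le (JJ_le I), Y₁, Y₂, p1, p2, ne, ?_, ?_⟩
  · exact le_inf (le_JJ_of (pt_abelem p1) l1)
      (le_cent_symm ((JJ_le I).trans (le_cent_symm (l1.trans (Zc_le_cent I)))))
  · exact le_inf (le_JJ_of (pt_abelem p2) l2)
      (le_cent_symm ((JJ_le I).trans (le_cent_symm (l2.trans (Zc_le_cent I)))))

/-- the extremal choice -/
structure Ext (G T U : Subgroup X) : Prop where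
  ii : II G T U
  JU : JJ U = U
  m1 : ∀ I, II G T I → mx I ≤ mx U
  m2 : ∀ I, II G T I → mx U ≤ mx I → ♯(JJ I) ≤ ♯U

theorem exists_ext (h : II G T I) : ∃ U, Ext G T U := by
  obtain ⟨I₁, h1, m1⟩ := Set.exists_max_image {I | II G T I} mx (Set.toFinite _) ⟨I, h⟩
  obtain ⟨I₂, ⟨h2, e2⟩, m2⟩ := Set.exists_max_image {I | II G T I ∧ mx I₁ ≤ mx I}
    (fun I => ♯(JJ I)) (Set.toFinite _) ⟨I₁, h1, le_rfl⟩
  refine ⟨JJ I₂, ii_JJ h2, JJ_eq le_rfl (JJ_le I₂), fun I hI => ?_, fun I hI e => ?_⟩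
  · rw [mx_JJ]
    exact (m1 I hI).trans e2
  · rw [mx_JJ] at e
    exact m2 I ⟨hI, e2.trans e⟩

theorem Ext.conj (h : Ext G T U) (hg : g ∈ G) : Ext G T (g •ᶜ U) :=
  ⟨ii_conj h.ii hg, by rw [JJ_conj, h.JU], fun I hI => by rw [mx_conj]; exact h.m1 I hI,
    fun I hI e => by rw [card_conj]; rw [mx_conj] at e; exact h.m2 I hI e⟩

theorem Ext.key (h : Ext G T U) (hI : II G T I) (hle : U ≤ I) : JJ I = U := by
  have h1 : U ≤ JJ I := h.JU.ge.trans (JJ_le_JJ hle (h.m1 I hI))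
  exact (Subgroup.eq_of_le_of_card_ge h1 (h.m2 I hI (mx_mono hle))).symm

theorem Ext.ii_sup (h : Ext G T U) (hA : A ≤ G ⊓ 𝐍(U)) (hp : IsPGroup 2 A) {Y₁ Y₂ : Subgroup X}
    (p1 : Pt G T Y₁) (p2 : Pt G T Y₂) (ne : Y₁ ≠ Y₂) (l1 : Y₁ ≤ Zc U) (l2 : Y₂ ≤ Zc U)
    (c1 : A ≤ 𝐂(Y₁)) (c2 : A ≤ 𝐂(Y₂)) : II G T (U ⊔ A) :=
  ⟨sup_le h.ii.1 (hA.trans inf_le_left),
    isPGroup_sup h.ii.2.1 hp (Or.inr (hA.trans inf_le_right)), Y₁, Y₂, p1, p2, ne,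
    le_inf ((l1.trans (Zc_le U)).trans le_sup_left)
      (le_cent_symm (sup_le (le_cent_symm (l1.trans (Zc_le_cent U))) c1)),
    le_inf ((l2.trans (Zc_le U)).trans le_sup_left)
      (le_cent_symm (sup_le (le_cent_symm (l2.trans (Zc_le_cent U))) c2))⟩

theorem Ext.hu (h : Ext G T U) (hA : A ≤ G ⊓ 𝐍(U)) (he : IsElementaryAbelian 2 A)
    (hc : mx U ≤ ♯A) (hn : ¬ A ≤ U) {Y₁ Y₂ : Subgroup X}
    (p1 : Pt G T Y₁) (p2 : Pt G T Y₂) (l1 : Y₁ ≤ Zc U) (l2 : Y₂ ≤ Zc U)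
    (c1 : A ≤ 𝐂(Y₁)) (c2 : A ≤ 𝐂(Y₂)) : Y₁ = Y₂ := by
  by_contra ne
  have hI := h.ii_sup hA (abelem_isPGroup he) p1 p2 ne l1 l2 c1 c2
  exact hn ((le_JJ (mem_of le_sup_right he ((h.m1 _ hI).trans hc))).trans
    (h.key hI le_sup_left).le)

theorem Ext.ZU (h : Ext G T U) (hT : Syl 2 T G) (hU : U ≤ T) : Zt T ≤ Zc U := by
  obtain ⟨-, -, Y₁, Y₂, p1, p2, ne, l1, l2⟩ := h.ii
  have c : Zt T ≤ 𝐂(U) := le_cent_symm (hU.trans (le_cent_Zt T))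
  have hI := h.ii_sup (A := Zt T) (le_inf ((Zt_le T).trans hT.le) (c.trans (cent_le_norm U)))
    (abelem_isPGroup (Zt_abelem T)) p1 p2 ne l1 l2
    (le_cent_symm ((l1.trans (Zc_le U)).trans (le_cent_symm c)))
    (le_cent_symm ((l2.trans (Zc_le U)).trans (le_cent_symm c)))
  refine le_inf ?_ c
  refine (le_JJ_of (Zt_abelem T) (le_inf le_sup_right ?_)).trans (h.key hI le_sup_left).le
  exact le_cent_symm (sup_le (le_cent_symm c) (abelem_le_cent (Zt_abelem T)))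

/-- a point in `Z(U)` is the point of a Sylow subgroup over `U` -/
theorem exists_syl (hT : Syl 2 T G) (hU : U ≤ G) (hp : IsPGroup 2 U) (p : Pt G T Y)
    (l : Y ≤ Zc U) : ∃ g ∈ G, U ≤ g •ᶜ T ∧ Y = g •ᶜ Zt T := by
  obtain ⟨k, hk, rfl⟩ := p
  have h1 : Syl 2 (k •ᶜ T) (G ⊓ 𝐂(k •ᶜ Zt T)) :=
    (hT.conj_of_mem hk).mono (le_inf (conj_le_of_mem hk hT.le)
      (conj_le_cent_conj.2 (le_cent_Zt T))) inf_le_left
  obtain ⟨c, hc, e⟩ := h1.exists_le_conj' (le_inf hU (le_cent_symm (l.trans (Zc_le_cent U)))) hp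
  refine ⟨c * k, mul_mem hc.1 hk, by rwa [← conj_conj], ?_⟩
  rw [← conj_conj, conj_eq_of_mem_cent hc.2]

theorem Ext.notle (h : Ext G T U) (hT : Syl 2 T G) (p3 : G ⊓ 𝐍(JJ T) ≤ 𝐍(Zt T)) (hU : U ≤ T) :
    ¬ JJ (T ⊓ 𝐍(U)) ≤ U := fun e => by
  have h1 : JJ (T ⊓ 𝐍(U)) = U := by
    rw [← JJ_eq e (le_inf hU (le_norm_self U)), h.JU]
  have h2 : T ⊓ 𝐍(U) = T := by
    refine eq_of_nil_of_inf_norm_le hT.nil inf_le_left (le_inf inf_le_left (inf_le_right.trans ?_))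
    have : 𝐍(T ⊓ 𝐍(U)) ≤ 𝐍(JJ (T ⊓ 𝐍(U))) :=
      Transfer.normalizer_le_normalizer_thompsonSubgroupOf (p := 2) (T ⊓ 𝐍(U))
    rwa [h1] at this
  rw [h2] at h1
  have key : ∀ Y, Pt G T Y → Y ≤ Zc U → Y = Zt T := fun Y p l => by
    obtain ⟨g, hg, h3, rfl⟩ := exists_syl hT h.ii.1 h.ii.2.1 p l
    have h4 : U ≤ JJ (g •ᶜ T) := h.JU.ge.trans (JJ_le_JJ h3 (by rw [mx_conj, ← h1, mx_JJ]))
    rw [JJ_conj, h1] at h4
    have h5 : U = g •ᶜ U := Subgroup.eq_of_le_of_card_ge h4 (card_conj g U).le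
    exact conj_eq_of_mem_norm (p3 ⟨hg, by rw [h1]; exact conj_eq_self_iff.1 h5.symm⟩)
  obtain ⟨-, -, Y₁, Y₂, p1, p2, ne, l1, l2⟩ := h.ii
  exact ne ((key _ p1 l1).trans (key _ p2 l2).symm)

theorem Ext.notle' (h : Ext G T U) (hT : Syl 2 T G) (p3 : G ⊓ 𝐍(JJ T) ≤ 𝐍(Zt T)) (hg : g ∈ G)
    (hU : U ≤ g •ᶜ T) : ¬ JJ (g •ᶜ T ⊓ 𝐍(U)) ≤ U := fun e => by
  refine (h.conj (inv_mem hg)).notle hT p3 (le_conj_iff_inv_conj_le.1 hU) ?_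
  have := conj_mono g⁻¹ e
  rwa [← JJ_conj, conj_inf, conj_conj, inv_mul_cancel, conj_eq_of_mem (one_mem _),
    ← norm_conj] at this

theorem Ext.move (h : Ext G T U) (hT : Syl 2 T G) (p3 : G ⊓ 𝐍(JJ T) ≤ 𝐍(Zt T)) (hU : U ≤ T)
    (hS : Syl 2 (T ⊓ 𝐍(U)) (G ⊓ 𝐍(U))) : ∃ n ∈ G ⊓ 𝐍(U), n •ᶜ Zt T ≠ Zt T := by
  by_contra e
  push Not at e
  obtain ⟨Y, p, l, ne⟩ : ∃ Y, Pt G T Y ∧ Y ≤ Zc U ∧ Y ≠ Zt T := by
    obtain ⟨-, -, Y₁, Y₂, p1, p2, ne, l1, l2⟩ := h.ii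
    by_cases e1 : Y₁ = Zt T
    · exact ⟨Y₂, p2, l2, fun e2 => ne (e1.trans e2.symm)⟩
    · exact ⟨Y₁, p1, l1, e1⟩
  obtain ⟨g, hg, h3, rfl⟩ := exists_syl hT h.ii.1 h.ii.2.1 p l
  have h4 := h.notle' hT p3 hg h3
  rw [JJ_le_iff] at h4
  push Not at h4
  obtain ⟨A, hA, hn⟩ := h4
  have hAN : A ≤ G ⊓ 𝐍(U) := hA.1.trans (inf_le_inf_right _ (conj_le_of_mem hg hT.le))
  obtain ⟨n, hn1, hn2⟩ := hS.exists_le_conj' hAN (abelem_isPGroup hA.2.1)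
  refine ne (h.hu hAN hA.2.1 ?_ hn p (pt_self G T) l (h.ZU hT hU) ?_ ?_)
  · rw [card_eq hA]
    exact mx_mono (le_inf h3 (le_norm_self U))
  · exact (hA.1.trans inf_le_left).trans (conj_le_cent_conj.2 (le_cent_Zt T))
  · rw [← e n hn1]
    exact hn2.trans (conj_le_cent_conj.2 (inf_le_left.trans (le_cent_Zt T)))

/-- the kernel of the action of `N(U)` on the conjugates of `Z` -/
def ker (G T U : Subgroup X) : Subgroup X :=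
  (G ⊓ 𝐍(U)) ⊓ ⨅ n ∈ G ⊓ 𝐍(U), 𝐍(n •ᶜ Zt T)

theorem mem_ker {k : X} :
    k ∈ ker G T U ↔ k ∈ G ⊓ 𝐍(U) ∧ ∀ n ∈ G ⊓ 𝐍(U), k ∈ 𝐍(n •ᶜ Zt T) := by
  simp only [ker, Subgroup.mem_inf (p := G ⊓ 𝐍(U)), Subgroup.mem_iInf]

theorem ker_normal (G T U : Subgroup X) : ker G T U ⊴ G ⊓ 𝐍(U) := by
  refine ⟨inf_le_left, fun g hg => mem_norm_of_conj_mem fun k hk => ?_⟩
  obtain ⟨h1, h2⟩ := mem_ker.1 hk
  refine mem_ker.2 ⟨mul_mem (mul_mem hg h1) (inv_mem hg), fun n hn => ?_⟩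
  have := conj_mem_conj (g := g) (h2 (g⁻¹ * n) (mul_mem (inv_mem hg) hn))
  rwa [← norm_conj, conj_conj, mul_inv_cancel_left] at this

theorem Ext.cfg (h : Ext G T U) (hT : Syl 2 T G) (p3 : G ⊓ 𝐍(JJ T) ≤ 𝐍(Zt T)) (hU : U ≤ T)
    (hS : Syl 2 (T ⊓ 𝐍(U)) (G ⊓ 𝐍(U))) : ∃ Q K R, Cfg G T U Q K R := by
  obtain ⟨Q, hQ⟩ : ∃ Q, Q = (T ⊓ 𝐍(U)) ⊓ ker G T U := ⟨_, rfl⟩
  have hQS : Syl 2 Q (ker G T U) := hQ ▸ hS.inf_normal (ker_normal G T U)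
  have QR : Q ≤ T ⊓ 𝐍(U) := hQ ▸ inf_le_left
  have ZU := h.ZU hT hU
  have UQ : U ≤ Q := by
    rw [hQ]
    refine le_inf (le_inf hU (le_norm_self U)) fun u hu =>
      mem_ker.2 ⟨⟨h.ii.1 hu, le_norm_self U hu⟩, fun n hn => cent_le_norm _ ?_⟩
    have h1 : n •ᶜ Zt T ≤ Zc U := conj_le_of_mem_norm (norm_le_norm_Zc U hn.2) ZU
    exact le_cent_symm (h1.trans (Zc_le_cent U)) hu
  have ZQ : Zt T ≤ Zc Q := le_inf ((ZU.trans (Zc_le U)).trans UQ)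
    (le_cent_symm ((QR.trans inf_le_left).trans (le_cent_Zt T)))
  have fr := hQS.frattini (ker_normal G T U)
  have del : ∀ n ∈ G ⊓ 𝐍(U), ∃ k ∈ G ⊓ 𝐍(Q), n •ᶜ Zt T = k •ᶜ Zt T := fun n hn => by
    obtain ⟨a, ha, b, hb, rfl⟩ := fr.mem_iff.1 hn
    refine ⟨b, ⟨hb.1.1, hb.2⟩, ?_⟩
    rw [← conj_conj, conj_eq_of_mem_norm ((mem_ker.1 ha).2 b hb.1)]
  have ptZ : ∀ k ∈ G ⊓ 𝐍(Q), k •ᶜ Zt T ≤ Zc Q := fun k hk =>
    conj_le_of_mem_norm (norm_le_norm_Zc Q hk.2) ZQ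
  have two : ∃ k ∈ G ⊓ 𝐍(Q), k •ᶜ Zt T ≠ Zt T := by
    obtain ⟨n, hn, e⟩ := h.move hT p3 hU hS
    obtain ⟨k, hk, e'⟩ := del n hn
    exact ⟨k, hk, e' ▸ e⟩
  have JQ : JJ Q = U := by
    obtain ⟨k, hk, e⟩ := two
    exact h.key ⟨(QR.trans inf_le_left).trans hT.le, hQS.isPGroup, _, _, ⟨k, hk.1, rfl⟩,
      pt_self G T, e, ptZ k hk, ZQ⟩ UQ
  have KU : G ⊓ 𝐍(Q) ≤ 𝐍(U) := inf_le_right.trans (by
    have : 𝐍(Q) ≤ 𝐍(JJ Q) := Transfer.normalizer_le_normalizer_thompsonSubgroupOf (p := 2) Q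
    rwa [JQ] at this)
  have RK : T ⊓ 𝐍(U) ≤ G ⊓ 𝐍(Q) := by
    refine le_inf (inf_le_left.trans hT.le) ?_
    rw [hQ]
    exact le_norm_inf (le_norm_self _) (hS.le.trans (ker_normal G T U).2)
  refine ⟨Q, G ⊓ 𝐍(Q), T ⊓ 𝐍(U), h.ii, h.JU, fun I hI A hA he B hB => ?_,
    fun I hI A hA he B hB hc => h.m2 I hI ?_, rfl, hS, ZU, UQ, QR, JQ, rfl, KU, RK,
    hS.mono RK (le_inf inf_le_left KU), fun k hk => ?_, fun P hP hp hn => ?_, del, two,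
    fun A hA he hc hn Y₁ Y₂ p1 p2 l1 l2 c1 c2 => h.hu hA he ?_ hn p1 p2 l1 l2 c1 c2, ?_⟩
  · rw [card_eq hB]
    exact (le_mx hA he).trans (h.m1 I hI)
  · rw [← card_eq hB]
    exact hc.trans (le_mx hA he)
  · exact le_Ohm (ptZ k hk) (abelem_conj.2 (Zt_abelem T))
  · refine hQS.le_of_norm (fun a ha => mem_ker.2 ⟨⟨(hP ha).1, KU (hP ha)⟩, fun n hn' => ?_⟩) hp
      (Or.inr (hP.trans inf_le_right))
    obtain ⟨k, hk, e⟩ := del n hn'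
    rw [e]
    exact hn k hk ha
  · obtain ⟨B, hB⟩ := Transfer.exists_mem_maxElem (p := 2) U
    rw [← card_eq hB]
    exact hc B hB
  · have h4 := h.notle hT p3 hU
    rw [JJ_le_iff] at h4
    push Not at h4
    obtain ⟨A, hA, hn⟩ := h4
    exact ⟨A, hA, fun e => hn ((le_JJ (Transfer.mem_maxElem_of_le hA e QR)).trans JQ.le)⟩

end Sel

open Sel in
/-- `SEL` with (P3) for `J(T)` as a hypothesis -/
theorem sel_of (hT : Syl 2 T G) (p3 : G ⊓ 𝐍(JJ T) ≤ 𝐍(Zt T))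
    (nwc : ¬ ∀ g ∈ G, g •ᶜ Ohm 2 (Zc T) ≤ T → g •ᶜ Ohm 2 (Zc T) = Ohm 2 (Zc T)) :
    ∃ U Q K R, Cfg G T U Q K R := by
  push Not at nwc
  obtain ⟨g, hg, h1, h2⟩ := nwc
  have hI : II G T (T ⊓ 𝐂(g •ᶜ Zt T)) := by
    refine ⟨inf_le_left.trans hT.le, hT.isPGroup.to_le inf_le_left, _, _, ⟨g, hg, rfl⟩,
      pt_self G T, h2, ?_, ?_⟩
    · exact le_inf (le_inf h1 (abelem_le_cent (abelem_conj.2 (Zt_abelem T))))
        (le_cent_symm inf_le_right)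
    · exact le_inf (le_inf (Zt_le T) (le_cent_symm (h1.trans (le_cent_Zt T))))
        (le_cent_symm (inf_le_left.trans (le_cent_Zt T)))
  obtain ⟨U, hU⟩ := exists_ext hI
  obtain ⟨R, hR, hUR⟩ := exists_syl_ge (p := 2) (M := G ⊓ 𝐍(U))
    (le_inf hU.ii.1 (le_norm_self U)) hU.ii.2.1
  obtain ⟨k, hk, e⟩ := hT.exists_conj_le (hR.le.trans inf_le_left) hR.isPGroup
  have h3 : Syl 2 (k •ᶜ R) (G ⊓ 𝐍(k •ᶜ U)) := by
    have := hR.conj k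
    rwa [conj_inf, conj_eq_of_mem hk, ← norm_conj] at this
  have h4 : Syl 2 (T ⊓ 𝐍(k •ᶜ U)) (G ⊓ 𝐍(k •ᶜ U)) :=
    h3.of_card_le (inf_le_inf_right _ hT.le) (hT.isPGroup.to_le inf_le_left)
      (Subgroup.card_le_of_le (le_inf e (h3.le.trans inf_le_right)))
  exact ⟨_, (hU.conj hk).cfg hT p3 ((conj_mono k hUR).trans e) h4⟩

/-- `SEL` -/
theorem sel {x : X} (h : Min G x) (hT : Syl 2 T G) (hxT : x ∈ 𝐍(T))
    (nwc : ¬ ∀ g ∈ G, g •ᶜ Ohm 2 (Zc T) ≤ T → g •ᶜ Ohm 2 (Zc T) = Ohm 2 (Zc T)) :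
    ∃ U Q K R, Cfg G T U Q K R :=
  sel_of hT (h.p3 hT hxT (Sel.le_JJ_of (Sel.Zt_abelem T) (Ohm_le _ _))
    ⟨JJ_le T, (le_norm_self T).trans (Transfer.normalizer_le_normalizer_thompsonSubgroupOf T)⟩
    (Transfer.normalizer_le_normalizer_thompsonSubgroupOf T hxT)) nwc

end Cfsg.Agent.CE
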