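import Cfsg.Agent.Lib.CE.Q2
import Cfsg.Agent.Lib.CE.FF2
import Cfsg.Agent.Lib.CE.Sel

/-!
# From the configuration with three points to the data `Q2`
-/

set_option autoImplicit false
set_option linter.unusedSectionVars false

namespace Cfsg.Agent.CE

open Subgroup Cfsg.Agent.OO Cfsg.Agent.ZN
open scoped Pointwise

universe u

variable {X : Type u} [Group X] [Finite X] {G T U Q K R A : Subgroup X}

theorem Cfg.toQ2 (hT : Syl 2 T G) (c : Cfg G T U Q K R) (AR : A ≤ R)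
    (f : F2 K (Ohm 2 (Zc Q)) (Zt T) Q A) : ∃ y z g, g ∈ K ∧ Q2 T Q R y z g := by
  have RT : R ≤ T := c.hR ▸ inf_le_left
  have h2 : IsPGroup 2 R := hT.isPGroup.to_le RT
  have RZ : R ≤ 𝐍(Zt T) := (RT.trans (Sel.le_cent_Zt T)).trans (cent_le_norm _)
  have WQ : Ohm 2 (Zc Q) ≤ Q := (Ohm_le _ _).trans (Zc_le Q)
  have sq : ∀ {B : Subgroup X}, IsElementaryAbelian 2 B → ∀ b ∈ B, b * b = 1 := fun hB b hb => by
    rw [← pow_two]; exact hB.2 b hb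
  have cm : ∀ v ∈ Ohm 2 (Zc Q), ∀ w ∈ Ohm 2 (Zc Q), v * w = w * v :=
    (Transfer.isElementaryAbelian_iff.1 f.hW).1
  have hRU : T ⊓ 𝐍(JJ Q) ≤ R := by rw [c.JQ, c.hR]
  have hR : R = T ⊓ 𝐍(Q) := le_antisymm (le_inf RT (c.RK.trans f.KQ))
    ((inf_le_inf_left _ (Transfer.normalizer_le_normalizer_thompsonSubgroupOf (p := 2) Q)).trans hRU)
  obtain ⟨s, hs, s1⟩ := c.two
  obtain ⟨a, ha, a1⟩ := f.exists_a
  obtain ⟨w, hw, w1⟩ := f.exists_w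
  have a2 : a⁻¹ = a := inv_eq_of_mul_eq_one_right (sq f.hA a ha)
  have haw : a * w * a⁻¹ ∈ Ohm 2 (Zc Q) := conj_mem_of_norm (f.KW (f.AK ha)) hw
  obtain ⟨z, hz⟩ : ∃ z, z = a * w * a⁻¹ * w⁻¹ := ⟨_, rfl⟩
  have zW : z ∈ Ohm 2 (Zc Q) := hz ▸ mul_mem haw (inv_mem hw)
  have z1 : z ≠ 1 := fun e => w1 (f.ca a ha a1 ⟨hw, mem_cent1.2 (by
    have : a * w * a⁻¹ = w := mul_inv_eq_one.1 (hz ▸ e)
    rw [mul_inv_eq_iff_eq_mul] at this
    exact this.symm)⟩)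
  have za : z ∈ Ohm 2 (Zc Q) ⊓ 𝐂(A) := f.ca a ha a1 ⟨zW, mem_cent1.2 (by
    have e1 : a * z * a⁻¹ = z⁻¹ := by
      have e0 : a * a = 1 := sq f.hA a ha
      rw [hz, a2]
      calc a * (a * w * a * w⁻¹) * a = (a * a) * w * a * w⁻¹ * a := by group
        _ = w * a * w⁻¹ * a := by rw [e0, one_mul]
        _ = (a * w * a * w⁻¹)⁻¹ := by simp only [mul_inv_rev, inv_inv, a2, mul_assoc]
    rw [inv_eq_of_mul_eq_one_right (sq f.hW z zW), mul_inv_eq_iff_eq_mul] at e1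
    exact e1.symm)⟩
  have zR : z ∈ 𝐂(R) := by
    have := f.cent_eq c.RK h2 RZ AR hs s1
    exact (this.ge za).2
  obtain ⟨y, hy⟩ : ∃ y, y = s * z * s⁻¹ := ⟨_, rfl⟩
  have yW : y ∈ Ohm 2 (Zc Q) := hy ▸ conj_mem_of_norm (f.KW hs) zW
  have y1 : y ∉ Ohm 2 (Zc Q) ⊓ 𝐂(A) := fun e => by
    have h3 := f.key ha a1 hw w1 (inv_mem hs) (hz ▸ ⟨zW, by
      rw [cent_conj]
      refine mem_conj.2 ?_
      rw [inv_inv, ← hy]
      exact e.2⟩)
    exact s1 (by rw [conj_eq_iff_eq_inv_conj]; exact h3.symm)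
  have mv : ∀ r ∈ R, r ∉ Q → r * y * r⁻¹ = y * z := fun r hr r1 => by
    have h3 := (f.mem_or c.RK h2 RZ AR hs s1 ha a1 hr).resolve_left r1
    have h4 : (a * r) * y * (a * r)⁻¹ = y := mem_cent_iff_conj.1 (f.QW h3) y yW
    have h5 : r * y * r⁻¹ = a * y * a⁻¹ := by
      calc r * y * r⁻¹ = a⁻¹ * ((a * r) * y * (a * r)⁻¹) * a := by group
        _ = a * y * a⁻¹ := by rw [h4, a2]
    rcases f.conj_eq ha hw w1 yW with e | e
    · refine (y1 (f.ca a ha a1 ⟨yW, mem_cent1.2 ?_⟩)).elim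
      rw [mul_inv_eq_iff_eq_mul] at e
      exact e.symm
    · rw [h5, e, ← hz, cm z zW y yW]
  have QT : Q ≤ T := c.QR.trans RT
  have hQ : Q = T ⊓ 𝐂[y] := by
    refine eq_of_nil_of_inf_norm_le (nil_of_le hT.nil inf_le_left)
      (le_inf QT fun q hq => mem_cent1.2 ?_) fun r hr => ?_
    · have := mem_cent_iff_conj.1 (f.QW hq) y yW
      rwa [mul_inv_eq_iff_eq_mul] at this
    · by_contra r1
      have h3 := mv r (hR ▸ ⟨hr.1.1, hr.2⟩) r1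
      rw [mem_cent1.1 hr.1.2, mul_inv_cancel_right] at h3
      exact z1 (left_eq_mul.1 h3)
  refine ⟨y, z, s, hs, hT.isPGroup, QT (WQ yW), sq f.hW y yW, hQ, hR, hRU, z1, WQ zW,
    fun r hr => mem_cent1.2 ?_, mv, f.KQ hs, hy.symm, c.off⟩
  exact (mem_centralizer_iff.1 zR r hr)

end Cfsg.Agent.CE
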