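import Cfsg.Agent.Lib.CE.ToFF
import Cfsg.Agent.Lib.CE.FFq
import Cfsg.Agent.Lib.CE.Glue
import Cfsg.Agent.Lib.CE.Fin

/-!
# `CE` modulo the end game inside the Sylow 2-subgroup
-/

set_option autoImplicit false

namespace Cfsg.Agent.CE

open Subgroup Cfsg.Agent.OO

universe u

/-- the end game: the data `Q2` do not exist in a 2-group with a fixed-point-free operator of
prime order -/
def EndQ2 : Prop := ∀ (X : Type u) [Group X] [Finite X] (T Q R : Subgroup X) (y z g x : X),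
  Q2 T Q R y z g → (orderOf x).Prime → x ∈ 𝐍(T) → T ⊓ 𝐂[x] = ⊥ →
  (∀ t ∈ T, ∀ C : Subgroup X, (∀ k, 0 < k → k < orderOf x → x ^ k * t * (x ^ k)⁻¹ ∈ C) → t ∈ C) →
  False

theorem ce_of_end (e : EndQ2.{u}) : CE.{u} := ce_of_min fun X _ _ G x h => by
  obtain ⟨T, hT, hxT⟩ := h.exists_syl
  obtain ⟨U, Q, K, R, c⟩ := sel h hT hxT fun wc => fin h.prime h.norm h.cop h.odd h.smp h.nab
    (fun H h1 h2 => h.sol H (lt_of_le_of_ne h1 h2)) hT hxT wc
  obtain ⟨A, hA, d⟩ := c.toFFD h hT hxT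
  obtain ⟨y, z, g, -, q⟩ := c.toQ2 hT hA.1 (c.toF2 d d.ca (d.q2 h hT hxT c.KG))
  exact e X T Q R y z g x q h.prime hxT (eq_bot_of_le_odd (q.pT.to_le inf_le_left)
    (inf_le_inf_right _ hT.le) h.odd) fun t ht _ => h.mem_of_conj_mem hT.le q.pT hxT ht

end Cfsg.Agent.CE
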