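import Cfsg.Agent.Lib.CE.Q2

/-!
# The counting argument of case `(b)`
-/

set_option autoImplicit false
set_option linter.unusedSectionVars false

namespace Cfsg.Agent.CE

open Subgroup Cfsg.Agent.OO Cfsg.Agent.ZN
open scoped Pointwise

universe u

variable {X : Type u} [Group X] [Finite X] {T Q R A E : Subgroup X} {y z g : X}

theorem bc_abelem {S : Set X} (h1 : ∀ a ∈ S, ∀ b ∈ S, a * b = b * a) (h2 : ∀ a ∈ S, a * a = 1) :
    IsElementaryAbelian 2 (closure S) := by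
  have h3 : ∀ a ∈ closure S, ∀ b ∈ closure S, a * b = b * a := fun a ha b hb => by
    have : closure S ≤ centralizer (closure S : Set X) := by
      rw [centralizer_closure, closure_le]
      exact fun u hu v hv => h1 v hv u hu
    exact (this ha b hb).symm
  refine Transfer.isElementaryAbelian_iff.2 ⟨h3, fun a ha => ?_⟩
  induction ha using closure_induction with
  | mem u hu => rw [pow_two, h2 u hu]
  | one => exact one_pow 2
  | mul u v hu hv e1 e2 => rw [Commute.mul_pow (h3 u hu v hv), e1, e2, one_mul]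
  | inv u _ e => rw [inv_pow, e, inv_one]

theorem bc_cnt (hE : A ⊓ Q ≤ E) (f : X → X) (h0 : ∀ a ∈ A, f a ∈ E) (h1 : ∀ a ∈ A, f a ∉ A)
    (h2 : ∀ a ∈ A, ∀ b ∈ A, a⁻¹ * b ∈ Q → f a = f b)
    (h3 : ∀ a ∈ A, ∀ b ∈ A, f a * (f b)⁻¹ ∈ A → a⁻¹ * b ∈ Q) : ♯A < ♯E := by
  let r : A → A := fun a => ((a : A ⧸ Q.subgroupOf A)).out
  have hr : ∀ a : A, ((r a : X)⁻¹ * a) ∈ A ⊓ Q := fun a =>
    ⟨((r a)⁻¹ * a).2, (QuotientGroup.eq (s := Q.subgroupOf A)).1 (QuotientGroup.out_eq' _)⟩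
  let F : Option A → E := fun o => match o with
    | none => 1
    | some a => ⟨(r a : X)⁻¹ * a * f a, E.mul_mem (hE (hr a)) (h0 a a.2)⟩
  have hn : ∀ a : A, F (some a) ≠ 1 := fun a e => h1 a a.2 (by
    have e1 : (r a : X)⁻¹ * a * f a = 1 := congrArg Subtype.val e
    rw [eq_inv_of_mul_eq_one_right e1]
    exact A.inv_mem (hr a).1)
  have hF : Function.Injective F := by
    rintro (_ | a) (_ | b) e
    · rfl
    · exact absurd e.symm (hn b)
    · exact absurd e (hn a)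
    · have e1 : (r a : X)⁻¹ * a * f a = (r b : X)⁻¹ * b * f b := congrArg Subtype.val e
      have e2 : f a * (f b)⁻¹ = ((r a : X)⁻¹ * a)⁻¹ * ((r b : X)⁻¹ * b) := by
        calc f a * (f b)⁻¹ = ((r a : X)⁻¹ * a)⁻¹ * ((r a : X)⁻¹ * a * f a) * (f b)⁻¹ := by group
          _ = _ := by rw [e1]; group
      have e3 := h3 a a.2 b b.2 (e2 ▸ A.mul_mem (A.inv_mem (hr a).1) (hr b).1)
      have e4 : r a = r b := by
        have : (a : A ⧸ Q.subgroupOf A) = b := (QuotientGroup.eq (s := Q.subgroupOf A)).2 e3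
        simp only [r, this]
      rw [e4, h2 a a.2 b b.2 e3] at e1
      exact congrArg some (Subtype.ext (mul_left_cancel (mul_right_cancel e1)))
  have := Nat.card_le_card_of_injective F hF
  rw [Finite.card_option] at this
  exact this

theorem Q2.bcount (h : Q2 T Q R y z g) (hb : T ⊓ 𝐂[z] ≤ R) (hAT : A ≤ T)
    (hA : IsElementaryAbelian 2 A) (hc : ∀ B ∈ Transfer.maxElem 2 R, ♯B ≤ ♯A)
    (hcm : ∀ a ∈ A, a * y * a⁻¹ ∈ 𝐂[y] ⊓ 𝐂[z] ∨ a ∈ R)
    (hβ : ∃ b ∈ R, b ∉ Q ∧ ∀ a ∈ A, a ∉ R → b ∈ 𝐂[a * y * a⁻¹]) : A ≤ R := by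
  classical
  by_contra hn
  obtain ⟨a0, ha0, ha0'⟩ := SetLike.not_le_iff_exists.1 hn
  obtain ⟨β, hβR, hβQ, hβ⟩ := hβ
  obtain ⟨cA, sA⟩ := Transfer.isElementaryAbelian_iff.1 hA
  have a2 : ∀ a ∈ A, a * a = 1 := fun a ha => by rw [← pow_two, sA a ha]
  have ai : ∀ a ∈ A, a⁻¹ = a := fun a ha => inv_eq_of_mul_eq_one_right (a2 a ha)
  have yi : y⁻¹ = y := inv_eq_of_mul_eq_one_right h.y2
  have zi : z⁻¹ = z := inv_eq_of_mul_eq_one_right h.z2
  have yz : Commute y z := h.cz (h.QR h.yQ)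
  have fixA : ∀ a ∈ A, ∀ c ∈ A, a * c * a⁻¹ = c := fun a ha c hc => by
    rw [cA a ha c hc, mul_inv_cancel_right]
  have cm : ∀ a ∈ A, Commute (a * y * a⁻¹) y ∧ Commute (a * y * a⁻¹) z := fun a ha => by
    rcases hcm a ha with e | e
    · exact ⟨mem_cent1.1 e.1, mem_cent1.1 e.2⟩
    · rcases h.mv' e with e | e <;> rw [e]
      · exact ⟨Commute.refl y, yz⟩
      · exact ⟨(Commute.refl y).mul_left yz.symm, yz.mul_left (Commute.refl z)⟩
  have nz : ∀ a ∈ A, a * z * a⁻¹ = z → a ∈ R := fun a ha e =>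
    hb ⟨hAT ha, mem_cent1.2 (mul_inv_eq_iff_eq_mul.1 e)⟩
  have zA : z ∉ A := fun e => ha0' (nz a0 ha0 (fixA a0 ha0 z e))
  have yA : y ∉ A := fun e => ha0' (h.QR (h.memQ (hAT ha0) (cA a0 ha0 y e)))
  have yzA : y * z ∉ A := fun e => by
    have e1 := cA a0 ha0 _ e
    rw [← h.mv β hβR hβQ] at e1
    have e2 : β⁻¹ * a0 * β ∈ Q := h.memQ (T.mul_mem (T.mul_mem (T.inv_mem (h.RT hβR)) (hAT ha0))
      (h.RT hβR)) (by
        calc β⁻¹ * a0 * β * y = β⁻¹ * (a0 * (β * y * β⁻¹)) * β := by group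
          _ = _ := by rw [e1]; group)
    have := R.mul_mem (R.mul_mem hβR (h.QR e2)) (R.inv_mem hβR)
    exact ha0' (by simpa [mul_assoc] using this)
  let S : Set X := {u | u ∈ A ⊓ Q ∨ u = z ∨ ∃ a ∈ A, u = a * y * a⁻¹}
  have qy : ∀ q ∈ A ⊓ Q, ∀ a ∈ A, q * (a * y * a⁻¹) = a * y * a⁻¹ * q := fun q hq a ha => by
    calc q * (a * y * a⁻¹) = (a * q * a⁻¹) * (a * y * a⁻¹) := by rw [fixA a ha q hq.1]
      _ = a * (q * y) * a⁻¹ := by group
      _ = a * y * a⁻¹ * (a * q * a⁻¹) := by rw [h.cy hq.2]; group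
      _ = _ := by rw [fixA a ha q hq.1]
  have yy : ∀ a ∈ A, ∀ b ∈ A, a * y * a⁻¹ * (b * y * b⁻¹) = b * y * b⁻¹ * (a * y * a⁻¹) :=
    fun a ha b hb => by
      have e := (cm _ (A.mul_mem (A.inv_mem ha) hb)).1.eq
      calc a * y * a⁻¹ * (b * y * b⁻¹) = a * (y * (a⁻¹ * b * y * (a⁻¹ * b)⁻¹)) * a⁻¹ := by group
        _ = _ := by rw [← e]; group
  have hE : IsElementaryAbelian 2 (closure S) := bc_abelem (by
    rintro u (hu | rfl | ⟨a, ha, rfl⟩) v (hv | rfl | ⟨b, hb, rfl⟩)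
    · exact cA u hu.1 v hv.1
    · exact h.cz (h.QR hu.2)
    · exact qy u hu b hb
    · exact (h.cz (h.QR hv.2)).symm
    · rfl
    · exact (cm b hb).2.symm
    · exact (qy v hv a ha).symm
    · exact (cm a ha).2
    · exact yy a ha b hb) (by
    rintro u (hu | rfl | ⟨a, ha, rfl⟩)
    · exact a2 u hu.1
    · exact h.z2
    · calc a * y * a⁻¹ * (a * y * a⁻¹) = a * (y * y) * a⁻¹ := by group
        _ = 1 := by rw [h.y2]; group)
  have hER : closure S ≤ R := by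
    rw [closure_le]
    rintro u (hu | rfl | ⟨a, ha, rfl⟩)
    · exact h.QR hu.2
    · exact h.QR h.zQ
    · exact h.QR (h.memQ (T.mul_mem (T.mul_mem (hAT ha) h.yT) (T.inv_mem (hAT ha))) (cm a ha).1)
  obtain ⟨B, hB⟩ := Transfer.exists_mem_maxElem (p := 2) R
  refine ((hB.2.2 _ hER hE).trans (hc B hB)).not_gt ?_
  have hAE : A ⊓ Q ≤ closure S := fun u hu => subset_closure (.inl hu)
  by_cases sp : ∀ a ∈ A, ∀ b ∈ A, a ∉ Q → b ∉ Q → a * b ∈ Q
  · refine bc_cnt hAE (fun a => if a ∈ Q then y else z) (fun a ha => ?_) (fun a ha => ?_)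
      (fun a ha b hb e => ?_) (fun a ha b hb e => ?_)
    · split_ifs
      · exact subset_closure (.inr (.inr ⟨1, A.one_mem, by group⟩))
      · exact subset_closure (.inr (.inl rfl))
    · split_ifs
      · exact yA
      · exact zA
    · have : a ∈ Q ↔ b ∈ Q := by
        rw [← Q.inv_mem_iff (x := a)]
        exact ⟨fun e1 => (Q.mul_mem_cancel_left e1).1 e, fun e1 => (Q.mul_mem_cancel_right e1).1 e⟩
      simp only [this]
    · by_cases e1 : a ∈ Q <;> by_cases e2 : b ∈ Q <;> simp only [e1, e2, if_true, if_false] at e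
      · exact Q.mul_mem (Q.inv_mem e1) e2
      · exact absurd (zi ▸ e) yzA
      · exact absurd (by rwa [yi, ← yz.eq] at e) yzA
      · rw [ai a ha]; exact sp a ha b hb e1 e2
  · push Not at sp
    obtain ⟨a1, ha1, a2', ha2, n1, n2, n3⟩ := sp
    have key : ∀ a ∈ A, y * (a * y * a⁻¹) ∈ A → a ∈ Q := fun a ha e => by
      by_contra aQ
      have aR : a ∉ R := fun aR => zA (by rwa [h.mv a aR aQ, ← mul_assoc, h.y2, one_mul] at e)
      have eq : ∀ c ∈ A, c * y * c⁻¹ * (c * a * y * (c * a)⁻¹) = y * (a * y * a⁻¹) := fun c hc => by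
        rw [← fixA c hc _ e]; group
      by_cases hRQ : ∃ c ∈ A, c ∈ R ∧ c ∉ Q
      · obtain ⟨c, hc, cR, cQ⟩ := hRQ
        have e1 := eq c hc
        have e2 : c * a * y * (c * a)⁻¹ = a * y * a⁻¹ * (a * z * a⁻¹) := by
          rw [cA c hc a ha]
          calc a * c * y * (a * c)⁻¹ = a * (c * y * c⁻¹) * a⁻¹ := by group
            _ = _ := by rw [h.mv c cR cQ]; group
        rw [e2, h.mv c cR cQ, mul_assoc y, mul_left_cancel_iff, ← mul_assoc, ← (cm a ha).2.eq,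
          mul_assoc, mul_eq_left] at e1
        exact aR (nz a ha ((eq_inv_of_mul_eq_one_right e1).trans zi))
      · push Not at hRQ
        obtain ⟨c, hc, c1, c2⟩ : ∃ c ∈ A, c ∉ Q ∧ c * a ∉ Q := by
          by_contra! hh
          have := Q.mul_mem (hh a1 ha1 n1) (hh a2' ha2 n2)
          rw [cA a2' ha2 a ha, mul_assoc, ← mul_assoc a, a2 a ha, one_mul] at this
          exact n3 this
        have b1 : Commute β (c * y * c⁻¹) := mem_cent1.1 (hβ c hc fun e => c1 (hRQ c hc e))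
        have b2 : Commute β (c * a * y * (c * a)⁻¹) :=
          mem_cent1.1 (hβ _ (A.mul_mem hc ha) fun e => c2 (hRQ _ (A.mul_mem hc ha) e))
        have b3 : Commute β (a * y * a⁻¹) := mem_cent1.1 (hβ a ha aR)
        have b4 := (b1.mul_right b2).mul_right b3.inv_right
        rw [eq c hc, mul_inv_cancel_right] at b4
        exact hβQ (h.memQ (h.RT hβR) b4)
    refine bc_cnt hAE (fun a => a * y * a⁻¹) (fun a ha => subset_closure (.inr (.inr ⟨a, ha, rfl⟩)))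
      (fun a ha e => yA ?_) (fun a ha b hb e => ?_) (fun a ha b hb e => key _
        (A.mul_mem (A.inv_mem ha) hb) ?_)
    · have := A.mul_mem (A.mul_mem (A.inv_mem ha) e) ha
      simpa [mul_assoc] using this
    · have e1 := h.cy e
      calc a * y * a⁻¹ = a * (y * (a⁻¹ * b)) * b⁻¹ := by group
        _ = _ := by rw [← e1]; group
    · have := A.mul_mem (A.mul_mem (A.inv_mem ha) e) ha
      have e1 : a⁻¹ * (a * y * a⁻¹ * (b * y * b⁻¹)⁻¹) * a = y * (a⁻¹ * b * y⁻¹ * (a⁻¹ * b)⁻¹) := by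
        group
      rwa [e1, yi] at this

end Cfsg.Agent.CE
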