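import Cfsg.Agent.Lib.OO.Basic
import Cfsg.Agent.Lib.Transfer.ThompsonJ

/-!
# The case `C_T(z) = R` of the end game
-/

set_option autoImplicit false

namespace Cfsg.Agent.CE

open Subgroup Cfsg.Agent.OO Cfsg.Agent.Transfer

universe u

variable {G : Type u} [Group G] {A B C E H J K T Γ : Subgroup G} {a b g x y z y' z' : G}

/-- `J` moves the involution `y` only to `y z` -/
structure Bl (J : Subgroup G) (y z : G) : Prop where
  mem : y ∈ J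
  y2 : y * y = 1
  z2 : z * z = 1
  z1 : z ≠ 1
  cz : J ≤ 𝐂[z]
  mv : ∀ j ∈ J, j * y * j⁻¹ = y ∨ j * y * j⁻¹ = y * z

theorem cj_comm (g : G) (h : a * b = b * a) :
    g * a * g⁻¹ * (g * b * g⁻¹) = g * b * g⁻¹ * (g * a * g⁻¹) := by
  rw [conj_mul, conj_mul, h]

namespace Bl

theorem conj (h : Bl J y z) (hg : g ∈ 𝐍(J)) : Bl J (g * y * g⁻¹) (g * z * g⁻¹) where
  mem := conj_mem_of_norm hg h.mem
  y2 := by rw [conj_mul, h.y2]; group
  z2 := by rw [conj_mul, h.z2]; group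
  z1 := by simpa using h.z1
  cz := fun j hj => mem_cent1.2 (by
    have := cj_comm g (mem_cent1.1 (h.cz (conj_mem_of_norm' hg hj)))
    simpa [mul_assoc] using this)
  mv := fun j hj => (h.mv _ (conj_mem_of_norm' hg hj)).imp
    (fun e => by
      calc j * (g * y * g⁻¹) * j⁻¹ = g * (g⁻¹ * j * g * y * (g⁻¹ * j * g)⁻¹) * g⁻¹ := by group
        _ = _ := by rw [e])
    (fun e => by rw [conj_mul, ← e]; group)

theorem moves (h : Bl J y z) (ha : a ∈ J) (hn : a ∉ 𝐂[y]) : a * y * a⁻¹ = y * z :=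
  (h.mv a ha).resolve_left fun e => hn (mem_cent1_iff_conj.2 e)

theorem mul_mem (h : Bl J y z) (ha : a ∈ J) (hb : b ∈ J) (h1 : a ∉ 𝐂[y]) (h2 : b ∉ 𝐂[y]) :
    a * b ∈ 𝐂[y] := mem_cent1_iff_conj.2 (by
  calc a * b * y * (a * b)⁻¹ = a * (b * y * b⁻¹) * a⁻¹ := by group
    _ = a * y * a⁻¹ * (a * z * a⁻¹) := by rw [h.moves hb h2]; group
    _ = y := by rw [h.moves ha h1, mem_cent1_iff_conj.1 (h.cz ha), mul_assoc, h.z2, mul_one])

theorem comm (h : Bl J y z) (h' : Bl J y' z') (hne : z ≠ z') : y ∈ 𝐂[y'] := by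
  by_contra e
  have e1 := h'.moves h.mem e
  have e2 := h.moves h'.mem fun e' => e (mem_cent1_comm.1 e')
  have i1 := inv_eq_of_mul_eq_one_right h.y2
  have i2 := inv_eq_of_mul_eq_one_right h'.y2
  rw [i1] at e1
  rw [i2] at e2
  refine hne ?_
  calc z = y * (y * z) := by rw [← mul_assoc, h.y2, one_mul]
    _ = y * y' * y * y' := by rw [← e2]; group
    _ = y' * z' * y'⁻¹ := by rw [e1, i2]
    _ = z' := mem_cent1_iff_conj.1 (h'.cz h'.mem)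

end Bl

variable [Finite G]

theorem two_mul_le (h : H < K) : 2 * ♯H ≤ ♯K := by
  have h1 := card_mul_relIndex h.le
  have h2 := relIndex_pos H K
  have h3 : H.relIndex K ≠ 1 := fun e => h.not_ge (relIndex_eq_one.1 e)
  rw [← h1, mul_comm]
  exact Nat.mul_le_mul_left _ (by omega)

theorem half (h : ∀ a ∈ A, ∀ b ∈ A, a ∉ C → b ∉ C → a * b ∈ C) : ♯A ≤ 2 * ♯(A ⊓ C) := by
  by_cases e : A ≤ C
  · rw [inf_eq_left.2 e]; omega
  obtain ⟨a, ha, hc⟩ := SetLike.not_le_iff_exists.1 e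
  have h1 : C.relIndex A = 2 := relIndex_eq_two_iff.2 ⟨a, ha, fun b hb => by
    by_cases e' : b ∈ C
    · exact .inr ⟨e', fun e'' => hc ((C.mul_mem_cancel_left e').1 e'')⟩
    · exact .inl ⟨h b hb a ha e' hc, e'⟩⟩
  rw [← card_inf_mul_relIndex C A, h1, inf_comm, mul_comm]

theorem lt_sup_zpowers (h : y ∉ H) : H < H ⊔ zpowers y :=
  lt_of_le_of_ne le_sup_left fun e => h (e ▸ mem_sup_right (mem_zpowers y))

theorem abelem_sup_zpowers (hA : IsElementaryAbelian 2 A) (y2 : y * y = 1) (h : A ≤ 𝐂[y]) :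
    IsElementaryAbelian 2 (A ⊔ zpowers y : Subgroup G) :=
  abelem_sup hA (abelem_zpowers (by rw [sq, y2])) (h.trans (cent_zpowers y).ge)

theorem Bl.repl (h : Bl J y z) (hA : A ∈ maxElem 2 J) (hn : ¬ A ≤ 𝐂[y]) :
    (A ⊓ 𝐂[y]) ⊔ zpowers y ∈ maxElem 2 J :=
  ⟨sup_le (inf_le_left.trans hA.1) (zpowers_le.2 h.mem),
    abelem_sup_zpowers (abelem_of_le hA.2.1 inf_le_left) h.y2 inf_le_right, fun B h1 h2 =>
      (hA.2.2 B h1 h2).trans ((half fun a ha b hb => h.mul_mem (hA.1 ha) (hA.1 hb)).trans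
        (two_mul_le (lt_sup_zpowers fun e =>
          hn ((abelem_le_cent hA.2.1).trans (cent_le_cent1 e.1)))))⟩

omit [Finite G] in
theorem Bl.comm_conj (h : Bl J y z) (hΓ : Γ ≤ 𝐍(J))
    (hfix : ∀ g ∈ Γ, g * z * g⁻¹ = z → g * y * g⁻¹ = y ∨ g * y * g⁻¹ = y * z) (ha : a ∈ Γ)
    (hb : b ∈ Γ) : a * y * a⁻¹ ∈ 𝐂[b * y * b⁻¹] := by
  have hg : b⁻¹ * a ∈ Γ := Γ.mul_mem (inv_mem hb) ha
  have h1 : b⁻¹ * a * y * (b⁻¹ * a)⁻¹ ∈ 𝐂[y] := by
    by_cases e : b⁻¹ * a * z * (b⁻¹ * a)⁻¹ = z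
    · rcases hfix _ hg e with e' | e' <;> rw [e']
      · exact mem_cent1_self y
      · exact Subgroup.mul_mem _ (mem_cent1_self y) (mem_cent1_comm.1 (h.cz h.mem))
    · exact (h.conj (hΓ hg)).comm h e
  have := cj_comm b (mem_cent1.1 h1)
  exact mem_cent1.2 (by simpa [mul_assoc] using this)

/-- the support lemma -/
theorem Bl.supp (h : Bl J y z) (hΓ : Γ ≤ 𝐍(J))
    (hfix : ∀ g ∈ Γ, g * z * g⁻¹ = z → g * y * g⁻¹ = y ∨ g * y * g⁻¹ = y * z)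
    (hA : A ∈ maxElem 2 J) (hn : ¬ A ≤ 𝐂[y]) :
    ∃ b ∈ J, b ∉ 𝐂[y] ∧ ∀ g ∈ Γ, g * z * g⁻¹ ≠ z → b ∈ 𝐂[g * y * g⁻¹] := by
  set D : Subgroup G := ⨅ g ∈ Γ, 𝐂[g * y * g⁻¹] with hD
  have hyD : ∀ g ∈ Γ, g * y * g⁻¹ ∈ D := fun g hg =>
    mem_iInf.2 fun b => mem_iInf.2 fun hb => h.comm_conj hΓ hfix hg hb
  have hDy : ∀ g ∈ Γ, D ≤ 𝐂[g * y * g⁻¹] := fun g hg => iInf₂_le g hg
  obtain ⟨A, ⟨hA, hn⟩, hmax⟩ := Set.exists_max_image {A | A ∈ maxElem 2 J ∧ ¬ A ≤ 𝐂[y]}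
    (fun A => ♯(A ⊓ D)) (Set.toFinite _) ⟨A, hA, hn⟩
  obtain ⟨b, hb, hby⟩ := SetLike.not_le_iff_exists.1 hn
  suffices ∀ g ∈ Γ, g * z * g⁻¹ ≠ z → A ≤ 𝐂[g * y * g⁻¹] from
    ⟨b, hA.1 hb, hby, fun g hg e => this g hg e hb⟩
  intro g hg hz
  by_contra hn'
  have h' := h.conj (hΓ hg)
  have hA' := h'.repl hA hn'
  have hy1 : g * y * g⁻¹ ∉ A := fun e => hn' ((abelem_le_cent hA.2.1).trans (cent_le_cent1 e))
  have h1 : (A ⊓ 𝐂[g * y * g⁻¹]) ⊔ zpowers (g * y * g⁻¹) ≤ 𝐂[y] := by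
    by_contra e
    refine (hmax _ ⟨hA', e⟩).not_gt (card_lt (lt_of_le_of_ne (le_inf (le_sup_of_le_left
      (le_inf inf_le_left (inf_le_right.trans (hDy g hg)))) inf_le_right) fun e' => hy1 ?_))
    have : g * y * g⁻¹ ∈ A ⊓ D := e' ▸ ⟨mem_sup_right (mem_zpowers _), hyD g hg⟩
    exact this.1
  have h2 : y ∈ (A ⊓ 𝐂[g * y * g⁻¹]) ⊔ zpowers (g * y * g⁻¹) :=
    le_of_mem_maxElem hA' (zpowers_le.2 h.mem) (abelem_zpowers (by rw [sq, h.y2]))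
      (zpowers_le.2 (le_cent1_iff.1 h1)) (mem_zpowers y)
  have hb' : b ∉ 𝐂[g * y * g⁻¹] := fun e => hby (h1 (mem_sup_left ⟨hb, e⟩))
  -- the elements `w` with `b w b⁻¹ ∈ {w, w z'}`
  let F : Subgroup G := 
    { carrier := {w | w ∈ J ∧ (b * w * b⁻¹ = w ∨ b * w * b⁻¹ = w * (g * z * g⁻¹))}
      one_mem' := ⟨J.one_mem, .inl (by group)⟩
      mul_mem' := fun {u v} hu hv => ⟨J.mul_mem hu.1 hv.1, by
        have c := mem_cent1.1 (h'.cz hv.1)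
        rw [← conj_mul]
        rcases hu.2 with e | e <;> rcases hv.2 with e' | e' <;> rw [e, e']
        · exact .inl rfl
        · exact .inr (mul_assoc _ _ _).symm
        · exact .inr (by rw [mul_assoc, ← c, mul_assoc u])
        · exact .inl (by rw [mul_assoc, ← mul_assoc _ v, ← c, mul_assoc v, h'.z2, mul_one])⟩
      inv_mem' := fun {u} hu => ⟨J.inv_mem hu.1, by
        have c := mem_cent1.1 (h'.cz (J.inv_mem hu.1))
        rw [← conj_inv]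
        rcases hu.2 with e | e <;> rw [e]
        · exact .inl rfl
        · exact .inr (by rw [mul_inv_rev, inv_eq_of_mul_eq_one_right h'.z2, c])⟩ }
  have h3 : y ∈ F := (sup_le (fun w hw => ⟨hA.1 hw.1, .inl (mul_inv_eq_iff_eq_mul.2
    (ab_iff.1 hA.2.1.1 b hb w hw.1))⟩) (zpowers_le.2 ⟨h'.mem, h'.mv b (hA.1 hb)⟩) :
      (A ⊓ 𝐂[g * y * g⁻¹]) ⊔ zpowers (g * y * g⁻¹) ≤ F) h2
  rcases h3.2 with e | e
  · exact hby (mem_cent1_iff_conj.2 e)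
  · exact hz (mul_left_cancel (e.symm.trans (h.moves (hA.1 hb) hby)))

/-- large elementary subgroups normalizing `J` centralize `z` -/
theorem Bl.le_cent (h : Bl J y z) (hJT : J ≤ T) (hzT : z ∈ T)
    (hQz : ∀ q ∈ T ⊓ 𝐂[y], q * z = z * q)
    (hR : ∀ g ∈ T, g * z = z * g → g * y * g⁻¹ = y ∨ g * y * g⁻¹ = y * z)
    (hA : A ∈ maxElem 2 J) (hn : ¬ A ≤ 𝐂[y]) (hE : IsElementaryAbelian 2 E) (hET : E ≤ T)
    (hEJ : E ≤ 𝐍(J)) (hm : ∀ B ≤ T, IsElementaryAbelian 2 B → B ≤ 𝐂[y] → ♯B ≤ ♯E) :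
    E ≤ 𝐂[z] := by
  classical
  by_contra hz
  have hfix : ∀ g ∈ E, g * z * g⁻¹ = z → g * y * g⁻¹ = y ∨ g * y * g⁻¹ = y * z := fun g hg e =>
    hR g (hET hg) (mul_inv_eq_iff_eq_mul.1 e)
  have cE := ab_iff.1 hE.1
  have hEy : E ⊓ 𝐂[y] ≤ 𝐂[z] := fun q hq => mem_cent1.2 (hQz q ⟨hET hq.1, hq.2⟩)
  have hyE : ∀ w, E ≤ 𝐂[w] → w ≠ y := fun w hw e => hz fun q hq => hEy ⟨hq, e ▸ hw hq⟩
  have hEc : ∀ w ∈ E ⊓ 𝐂[y], E ≤ 𝐂[w] := fun w hw => (abelem_le_cent hE).trans (cent_le_cent1 hw.1)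
  have yz := mem_cent1.1 (h.cz h.mem)
  by_cases hc : ∃ a ∈ E, a ∉ 𝐂[y] ∧ E ≤ 𝐂[y * (a * y * a⁻¹)]
  · obtain ⟨a, ha, hay, hc⟩ := hc
    have haz : a * z * a⁻¹ ≠ z := fun e => hz (by
      rcases hfix a ha e with e' | e'
      · exact absurd (mem_cent1_iff_conj.2 e') hay
      · rwa [e', ← mul_assoc, h.y2, one_mul] at hc)
    obtain ⟨b, hb, hby, hb'⟩ := h.supp hEJ hfix hA hn
    have hb1 := mem_cent1_iff_conj.1 (hb' a ha haz)
    have hb2 := h.moves hb hby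
    have h1 : ∀ g ∈ E, g * z * g⁻¹ = z → g ∈ 𝐂[y] := fun g hg e => by
      rcases hfix g hg e with e' | e'
      · exact mem_cent1_iff_conj.2 e'
      have e1 := mem_cent1_iff_conj.1 (hc hg)
      have e2 : g * (a * y * a⁻¹) * g⁻¹ = a * y * a⁻¹ * (a * z * a⁻¹) := by
        rw [conj_mul, ← e']
        calc g * (a * y * a⁻¹) * g⁻¹ = g * a * y * (g * a)⁻¹ := by group
          _ = _ := by rw [cE g hg a ha]; group
      rw [← conj_mul, e', e2, mul_assoc, mul_left_cancel_iff, ← mul_assoc,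
        ← mem_cent1.1 (h.cz (h.conj (hEJ ha)).mem), mul_assoc, mul_eq_left] at e1
      exact absurd ((eq_inv_of_mul_eq_one_right e1).trans (inv_eq_of_mul_eq_one_right h.z2)) haz
    have h2 : ∀ g ∈ E, g ∉ 𝐂[y] → g * a ∈ 𝐂[y] := fun g hg hgy => by
      refine h1 _ (E.mul_mem hg ha) ?_
      by_contra e
      have e1 := mem_cent1_iff_conj.1 (hb' g hg fun e' => hgy (h1 g hg e'))
      have e2 := mem_cent1_iff_conj.1 (hb' _ (E.mul_mem hg ha) e)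
      have e3 := mem_cent1_iff_conj.1 (hc hg)
      have e4 : y * (a * y * a⁻¹) = g * y * g⁻¹ * (g * a * y * (g * a)⁻¹) := by
        rw [← e3]; group
      have e5 : b * (y * (a * y * a⁻¹)) * b⁻¹ = y * (a * y * a⁻¹) := by
        rw [e4, ← conj_mul, e1, e2]
      rw [← conj_mul, hb1, hb2, mul_left_inj, mul_eq_left] at e5
      exact h.z1 e5
    have h3 : ♯E ≤ 2 * ♯(E ⊓ 𝐂[y]) := half fun g hg k hk h3 h4 => by
      have e : g * k = g * a * (k * a) := by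
        have a2 : a * a = 1 := by rw [← sq]; exact hE.2 a ha
        rw [mul_assoc, ← mul_assoc a, cE a ha k hk, mul_assoc k, a2, mul_one]
      rw [e]
      exact Subgroup.mul_mem _ (h2 g hg h3) (h2 k hk h4)
    have h4 : IsElementaryAbelian 2 ((E ⊓ 𝐂[y]) ⊔ zpowers z : Subgroup G) :=
      abelem_sup_zpowers (abelem_of_le hE inf_le_left) h.z2 hEy
    have h5 : (E ⊓ 𝐂[y]) ⊔ zpowers z ≤ 𝐂[y] :=
      sup_le inf_le_right (zpowers_le.2 (mem_cent1.2 yz.symm))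
    have h6 := hm _ (sup_le (sup_le (inf_le_left.trans hET) (zpowers_le.2 hzT))
      (zpowers_le.2 (hJT h.mem))) (abelem_sup_zpowers h4 h.y2 h5)
      (sup_le h5 (zpowers_le.2 (mem_cent1_self y)))
    have h7 := two_mul_le (lt_sup_zpowers (y := z) (H := E ⊓ 𝐂[y]) fun e => hz (hEc z e))
    have h8 := two_mul_le (lt_sup_zpowers (y := y) (H := (E ⊓ 𝐂[y]) ⊔ zpowers z) fun e => by
      obtain ⟨w, hw, _, ⟨k, rfl⟩, e'⟩ := (mem_sup_norm_left (zpowers_le.2 (cent_le_norm _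
        (le_cent1_iff.1 hEy)))).1 e
      have e1 : a * y * a⁻¹ = w * (a * z * a⁻¹) ^ k := by
        rw [← e', ← conj_mul, mem_cent1_iff_conj.1 (hEc w hw ha), conj_zpow]
      have e2 : b * w * b⁻¹ = w := by
        have e3 : w = a * y * a⁻¹ * ((a * z * a⁻¹) ^ k)⁻¹ := by rw [e1]; group
        rw [e3, ← conj_mul, hb1, ← conj_inv, ← conj_zpow,
          mem_cent1_iff_conj.1 ((h.conj (hEJ ha)).cz hb)]
      refine hby (mem_cent1_iff_conj.2 ?_)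
      rw [← e', ← conj_mul, e2, ← conj_zpow, mem_cent1_iff_conj.1 (h.cz hb)])
    have h9 : 0 < ♯(E ⊓ 𝐂[y]) := Nat.card_pos
    omega
  push Not at hc
  set D : Subgroup G := T ⊓ ⨅ g ∈ E, 𝐂[g * y * g⁻¹] with hD
  have hyD : ∀ g ∈ E, g * y * g⁻¹ ∈ Ohm 2 (Zc D) := fun g hg =>
    mem_Ohm ⟨⟨hJT (h.conj (hEJ hg)).mem, mem_iInf.2 fun b => mem_iInf.2 fun hb =>
      h.comm_conj hEJ hfix hg hb⟩, le_cent1_iff.1 (inf_le_right.trans (iInf₂_le g hg))⟩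
      (by rw [sq, (h.conj (hEJ hg)).y2])
  have h1 : E ⊓ 𝐂[y] ≤ D := fun q hq => ⟨hET hq.1, mem_iInf.2 fun g => mem_iInf.2 fun hg => by
    have := cj_comm g (mem_cent1.1 hq.2)
    rw [mem_cent1_iff_conj.1 (hEc q hq hg)] at this
    exact mem_cent1.2 this⟩
  have h2 : D ≤ 𝐂[y] := by simpa using (inf_le_right.trans (iInf₂_le 1 E.one_mem) :
    D ≤ 𝐂[1 * y * 1⁻¹])
  set B := (E ⊓ 𝐂[y]) ⊔ Ohm 2 (Zc D) with hB
  have hBD : B ≤ D := sup_le h1 ((Ohm_le _ _).trans inf_le_left)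
  have h3 := hm B (hBD.trans inf_le_left) (abelem_sup (abelem_of_le hE inf_le_left)
    (Ohm_abelem 2 (Zc_ab D)) (h1.trans (le_cent_symm ((Ohm_le _ _).trans inf_le_right))))
    (hBD.trans h2)
  set E0 := (𝐂[y]).subgroupOf E with hE0
  let f : (E ⧸ E0) × E0 → B := fun p =>
    ⟨(p.1.out : E) * y * (p.1.out : E)⁻¹ * (p.2 : E), B.mul_mem (mem_sup_right (hyD _ p.1.out.2))
      (mem_sup_left ⟨(p.2 : E).2, p.2.2⟩)⟩
  have cj : ∀ g ∈ E, ∀ w, E ≤ 𝐂[g * w * g⁻¹] → E ≤ 𝐂[w] := fun g hg w hw q hq => by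
    have := cj_comm g⁻¹ (mem_cent1.1 (hw (conj_mem_of_norm (le_norm_self E hg) hq)))
    exact mem_cent1.2 (by simpa [mul_assoc] using this)
  have hf : Function.Injective f := by
    rintro ⟨p, c⟩ ⟨q, d⟩ e
    have e1 : ((p.out : E) : G) * y * ((p.out : E) : G)⁻¹ * (c : E) =
      (q.out : E) * y * ((q.out : E) : G)⁻¹ * (d : E) := congrArg Subtype.val e
    have e2 : p = q := by
      rw [← p.out_eq, ← q.out_eq]
      refine Quotient.sound (QuotientGroup.leftRel_apply.2 ?_)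
      by_contra e3
      refine hc _ (p.out⁻¹ * q.out).2 e3 (cj _ p.out.2 _ ?_)
      have e4 : ((p.out : E) : G) * (y * ((p.out⁻¹ * q.out : E) * y *
          ((p.out⁻¹ * q.out : E) : G)⁻¹)) * ((p.out : E) : G)⁻¹ = (c : E) * ((d : E) : G)⁻¹ := by
        have i := inv_eq_of_mul_eq_one_right h.y2
        calc _ = (((p.out : E) : G) * y⁻¹ * ((p.out : E) : G)⁻¹) *
            ((q.out : E) * y * ((q.out : E) : G)⁻¹ * (d : E)) * ((d : E) : G)⁻¹ := by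
              rw [i]; push_cast; group
          _ = _ := by rw [← e1]; group
      rw [e4]
      exact (abelem_le_cent hE).trans (cent_le_cent1 (E.mul_mem (c : E).2 (inv_mem (d : E).2)))
    subst e2
    exact Prod.ext rfl (Subtype.ext (Subtype.ext (mul_left_cancel e1)))
  have := Fintype.ofFinite ((E ⧸ E0) × E0)
  have := Fintype.ofFinite B
  have h4 := Fintype.card_lt_of_injective_of_notMem f hf (b := 1) (by
    rintro ⟨⟨p, c⟩, e⟩
    have e1 : ((p.out : E) : G) * y * ((p.out : E) : G)⁻¹ * (c : E) = 1 := congrArg Subtype.val e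
    refine hyE y (cj _ p.out.2 _ ?_) rfl
    rw [eq_inv_of_mul_eq_one_left e1]
    exact (abelem_le_cent hE).trans (cent_le_cent1 (inv_mem (c : E).2)))
  rw [← Nat.card_eq_fintype_card, ← Nat.card_eq_fintype_card, Nat.card_prod,
    ← card_eq_card_quotient_mul_card_subgroup] at h4
  omega

theorem beta (hT : IsPGroup 2 T) (hp : (orderOf x).Prime) (hx : x ∈ 𝐍(T)) (hf : T ⊓ 𝐂[x] = ⊥)
    (hni : ∀ t ∈ T, (∀ k, 0 < k → k < orderOf x → x ^ k * t * (x ^ k)⁻¹ ∈ 𝐂[y]) → t ∈ 𝐂[y])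
    (hy : y ∈ T) (hzT : z ∈ T) (y2 : y * y = 1) (z2 : z * z = 1) (z1 : z ≠ 1)
    (hQz : ∀ q ∈ T ⊓ 𝐂[y], q * z = z * q)
    (hR : ∀ g ∈ T, g * z = z * g → g * y * g⁻¹ = y ∨ g * y * g⁻¹ = y * z)
    (hA : A ∈ maxElem 2 (T ⊓ 𝐂[z])) (hAy : ¬ A ≤ 𝐂[y]) : False := by
  have := Fact.mk Nat.prime_two
  have := Fact.mk hp
  set R := T ⊓ 𝐂[z] with hRd
  have h0 : Bl R y z := ⟨⟨hy, mem_cent1.2 (hQz y ⟨hy, mem_cent1_self y⟩)⟩, y2, z2, z1, inf_le_right,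
    fun j hj => hR j hj.1 (mem_cent1.1 hj.2)⟩
  set J := thompsonSubgroupOf 2 R with hJ
  have hJR : J ≤ R := thompsonSubgroupOf_le R
  have h : Bl J y z := ⟨le_thompsonSubgroupOf (h0.repl hA hAy) (mem_sup_right (mem_zpowers y)),
    y2, z2, z1, hJR.trans inf_le_right, fun j hj => h0.mv j (hJR hj)⟩
  have hAJ := mem_maxElem_of_le hA (le_thompsonSubgroupOf hA) hJR
  set P := T ⊓ 𝐍(J) with hP
  have hRP : R ≤ P := le_inf inf_le_left
    ((le_norm_self R).trans (normalizer_le_normalizer_thompsonSubgroupOf R))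
  have h1 : thompsonSubgroupOf 2 P ≤ R := by
    rw [thompsonSubgroupOf_eq, sSup_le_iff]
    exact fun E hE => le_inf (hE.1.trans inf_le_left) (h.le_cent (hJR.trans inf_le_left) hzT hQz hR
      hAJ hAy hE.2.1 (hE.1.trans inf_le_left) (hE.1.trans inf_le_right) fun B h1 h2 h3 =>
        hE.2.2 B ((le_inf h1 fun q hq => mem_cent1.2 (hQz q ⟨h1 hq, h3 hq⟩)).trans hRP) h2)
  have h2 : J = thompsonSubgroupOf 2 P := thompsonSubgroupOf_eq_of_le h1 hRP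
  have h3 : P = T := eq_of_nil_of_inf_norm_le (nil_of_isPGroup hT) inf_le_left
    (inf_le_inf_left _ (h2 ▸ normalizer_le_normalizer_thompsonSubgroupOf P))
  have h4 : zpowers x ≤ 𝐍(J) := zpowers_le.2 (by
    rw [h2, h3]; exact normalizer_le_normalizer_thompsonSubgroupOf T hx)
  have h5 : ∀ g ∈ zpowers x, g * z * g⁻¹ = z → g = 1 := fun g hg e => by
    by_contra g1
    have e1 : x ∈ zpowers g := by
      have e2 : (⟨x, mem_zpowers x⟩ : zpowers x) ∈ zpowers (⟨g, hg⟩ : zpowers x) :=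
        mem_zpowers_of_prime_card (Nat.card_zpowers x) (by simpa using g1)
      obtain ⟨k, hk⟩ := e2
      exact ⟨k, congrArg Subtype.val hk⟩
    exact z1 (mem_bot.1 (hf ▸ (⟨hzT, cent1_le_of_mem_zpowers e1 (mem_cent1_comm.1
      (mem_cent1_iff_conj.2 e))⟩ : z ∈ T ⊓ 𝐂[x])))
  obtain ⟨b, hb, hby, hb'⟩ := h.supp h4 (fun g hg e => .inl (by simp [h5 g hg e])) hAJ hAy
  refine hby (hni b (hJR hb).1 fun k k0 hk => ?_)
  have h6 := hb' (x ^ k)⁻¹ (inv_mem (pow_mem (mem_zpowers x) k)) fun e =>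
    pow_ne_one_of_lt_orderOf k0.ne' hk (inv_eq_one.1 (h5 _ (inv_mem (pow_mem (mem_zpowers x) k)) e))
  have := cj_comm (x ^ k) (mem_cent1.1 h6)
  exact mem_cent1.2 (by simpa [mul_assoc] using this)

end Cfsg.Agent.CE
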