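import Cfsg.Agent.Lib.CE.Cfg
import Cfsg.Agent.Lib.CE.Pts
import Cfsg.Agent.Lib.Part.Odd

/-!
# `CE`, the case `C_T(z) = R`
-/

set_option autoImplicit false
set_option linter.unusedSectionVars false

namespace Cfsg.Agent.CE

open Subgroup Cfsg.Agent.Coprime Cfsg.Agent.OO Cfsg.Agent.ZN Cfsg.Agent.Transfer
open scoped Pointwise

universe u

variable {X : Type u} [Group X] [Finite X] {A B G J R T Γ : Subgroup X} {a b c g k x y z : X}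

namespace Beta9

theorem mem_sup_zp (y2 : y * y = 1) (hy : y ∈ 𝐂(B)) (ha : a ∈ B ⊔ zpowers y) : a ∈ B ∨ a * y ∈ B := by
  obtain ⟨b, hb, c, hc, rfl⟩ := (mem_sup_norm_left (zpowers_le.2 (cent_le_norm B hy))).1 ha
  rcases Cfsg.Agent.Part.eq_or_of_mem_zpowers y2 hc with rfl | rfl
  · exact .inl (by rwa [mul_one])
  · exact .inr (by rwa [mul_assoc, y2, mul_one])

theorem two_mul_le (h : A < B) : 2 * ♯A ≤ ♯B := by
  obtain ⟨n, hn⟩ := card_dvd h.le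
  have h1 := card_lt h
  have h2 := card_pos' A
  rw [hn] at h1 ⊢
  rw [mul_comm]
  exact Nat.mul_le_mul_left _ (by_contra fun e => by
    have : ♯A * n ≤ ♯A * 1 := Nat.mul_le_mul_left _ (by omega)
    omega)

theorem abelem_zp (hB : IsElementaryAbelian 2 B) (y2 : y * y = 1) (hy : y ∈ 𝐂(B)) :
    IsElementaryAbelian 2 (B ⊔ zpowers y : Subgroup X) :=
  isElementaryAbelian_sup hB (isElementaryAbelian_zpowers ((pow_two y).trans y2))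
    (le_cent_symm (zpowers_le.2 hy))

theorem card_eq (ha : a ∈ A) (h : ∀ b ∈ A, b ∈ B ∨ a * b ∈ B) (a1 : a ∉ B) :
    ♯A = 2 * ♯(A ⊓ B : Subgroup X) := by
  have h1 : B.relIndex A = 2 := index_eq_two_iff'.2 ⟨⟨a, ha⟩, fun r => by
    rcases h r r.2 with e | e
    · exact .inr ⟨e, fun e' => a1 ((mul_mem_cancel_right e).1 e')⟩
    · exact .inl ⟨e, fun e' => a1 ((mul_mem_cancel_right (show (r : X) ∈ B from e')).1 e)⟩⟩
  rw [← card_inf_mul_relIndex B A, h1, inf_comm, mul_comm]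

/-- replacement by a transvection centre -/
theorem repl (hA : A ∈ maxElem 2 J) (hy : y ∈ J) (y2 : y * y = 1)
    (mv : ∀ b ∈ J, b * y * b⁻¹ = y ∨ b * y * b⁻¹ = y * z) (h : ¬ A ≤ 𝐂[y]) :
    (A ⊓ 𝐂[y]) ⊔ zpowers y ∈ maxElem 2 J := by
  obtain ⟨a, ha, a1⟩ := SetLike.not_le_iff_exists.1 h
  have h0 : y ∈ 𝐂(A ⊓ 𝐂[y]) := le_cent1_iff.1 inf_le_right
  refine ⟨sup_le (inf_le_left.trans hA.1) (zpowers_le.2 hy),
    abelem_zp (abelem_of_le hA.2.1 inf_le_left) y2 h0, fun B h1 h2 => (hA.2.2 B h1 h2).trans ?_⟩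
  rw [card_eq ha (B := 𝐂[y]) (fun b hb => ?_) a1]
  · refine two_mul_le (lt_of_le_of_ne le_sup_left fun e => a1 ?_)
    exact mem_cent1.2 (ab_iff.1 hA.2.1.1 a ha y (e.ge (mem_sup_right (mem_zpowers y))).1)
  · refine (mv b (hA.1 hb)).imp mem_cent1_iff_conj.2 fun e => mem_cent1_iff_conj.2 ?_
    have e1 := (mv a (hA.1 ha)).resolve_left fun e => a1 (mem_cent1_iff_conj.2 e)
    calc a * b * y * (a * b)⁻¹ = a * (b * y * b⁻¹) * a⁻¹ := by group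
      _ = a ^ 2 * y * (a ^ 2)⁻¹ := by rw [e, ← e1, pow_two]; group
      _ = y := by rw [hA.2.1.2 a ha]; group

/-- the data of a transvection centre -/
structure BD (J : Subgroup X) (y z : X) : Prop where
  hy : y ∈ J
  y2 : y * y = 1
  z2 : z * z = 1
  mv : ∀ b ∈ J, b * y * b⁻¹ = y ∨ b * y * b⁻¹ = y * z

theorem BD.conj (h : BD J y z) (hg : g ∈ 𝐍(J)) : BD J (g * y * g⁻¹) (g * z * g⁻¹) :=
  ⟨conj_mem_of_norm hg h.hy, GW.conj_sq h.y2 g, GW.conj_sq h.z2 g, fun b hb =>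
    (h.mv _ (conj_mem_of_norm' hg hb)).imp (fun e => by nth_rewrite 2 [← e]; group)
      fun e => by rw [show g * y * g⁻¹ * (g * z * g⁻¹) = g * (y * z) * g⁻¹ by group, ← e]; group⟩

theorem BD.eq {v w : X} (h : BD J y z) (h' : BD J v w) (e : v ∉ 𝐂[y]) : z = w := by
  have h1 := (h.mv v h'.hy).resolve_left fun e' => e (mem_cent1_iff_conj.2 e')
  have h2 := (h'.mv y h.hy).resolve_left fun e' => e (mem_cent1_comm.1 (mem_cent1_iff_conj.2 e'))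
  have h3 : z = y⁻¹ * (v * y * v⁻¹) := by rw [h1]; group
  have h4 : w = v⁻¹ * (y * v * y⁻¹) := by rw [h2]; group
  rw [← inv_eq_of_mul_eq_one_right h.z2, h3, h4]
  simp only [mul_inv_rev, inv_eq_of_mul_eq_one_right h.y2, inv_eq_of_mul_eq_one_right h'.y2,
    mul_assoc]

theorem BD.comm (h : BD J y z) (hΓ : Γ ≤ 𝐍(J)) (hc : ∀ g ∈ Γ, g ∈ 𝐂[z] → g * y * g⁻¹ ∈ 𝐂[y])
    (hg : g ∈ Γ) (hk : k ∈ Γ) : g * y * g⁻¹ ∈ 𝐂[k * y * k⁻¹] := by_contra fun e => by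
  have h1 := (h.conj (hΓ hk)).eq (h.conj (hΓ hg)) e
  have h2 := hc (k⁻¹ * g) (mul_mem (inv_mem hk) hg) (mem_cent1_iff_conj.2 (by
    calc _ = k⁻¹ * (g * z * g⁻¹) * k := by group
      _ = z := by rw [← h1]; group))
  rw [cent1_conj, mem_conj] at e
  exact e (by convert h2 using 1; group)

theorem BD.supp (h : BD J y z) (hΓ : Γ ≤ 𝐍(J)) (hc : ∀ g ∈ Γ, g ∈ 𝐂[z] → g * y * g⁻¹ ∈ 𝐂[y])
    (off : ∃ A ∈ maxElem 2 J, ¬ A ≤ 𝐂[y]) :
    ∃ β ∈ J, β ∉ 𝐂[y] ∧ ∀ g ∈ Γ, g ∉ 𝐂[z] → β ∈ 𝐂[g * y * g⁻¹] := by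
  obtain ⟨A, ⟨hA, h1⟩, hmax⟩ := Set.exists_max_image {A | A ∈ maxElem 2 J ∧ ¬ A ≤ 𝐂[y]}
    (fun A => ♯(A ⊓ closure {v | ∃ g ∈ Γ, v = g * y * g⁻¹} : Subgroup X)) (Set.toFinite _) off
  obtain ⟨a, ha, a1⟩ := SetLike.not_le_iff_exists.1 h1
  refine ⟨a, hA.1 ha, a1, fun g hg g1 => by_contra fun a2 => ?_⟩
  have h' := h.conj (hΓ hg)
  have hV : closure {v | ∃ g ∈ Γ, v = g * y * g⁻¹} ≤ 𝐂[g * y * g⁻¹] := by
    rw [closure_le]; rintro _ ⟨k, hk, rfl⟩; exact h.comm hΓ hc hk hg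
  have hv : g * y * g⁻¹ ∈ closure {v | ∃ g ∈ Γ, v = g * y * g⁻¹} := subset_closure ⟨g, hg, rfl⟩
  have g2 : z ≠ g * z * g⁻¹ := fun e => g1 (mem_cent1_iff_conj.2 e.symm)
  generalize g * y * g⁻¹ = v at *
  generalize g * z * g⁻¹ = w at *
  have h2 := repl hA h'.hy h'.y2 h'.mv fun e => a2 (e ha)
  have h3 : (A ⊓ 𝐂[v]) ⊔ zpowers v ≤ 𝐂[y] := by_contra fun e => by
    refine (hmax _ ⟨h2, e⟩).not_gt (card_lt (lt_of_le_of_ne
      (le_inf ((inf_le_inf_left _ hV).trans le_sup_left) inf_le_right) fun e' => a2 ?_))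
    exact mem_cent1.2 (ab_iff.1 hA.2.1.1 a ha v (e'.ge ⟨mem_sup_right (mem_zpowers v), hv⟩).1)
  have h4 := le_of_mem_maxElem h2 (zpowers_le.2 h.hy)
    (isElementaryAbelian_zpowers ((pow_two y).trans h.y2)) (zpowers_le.2 (le_cent1_iff.1 h3))
    (mem_zpowers y)
  rcases mem_sup_zp h'.y2 (le_cent1_iff.1 inf_le_right) h4 with e | e
  · exact a1 (mem_cent1.2 (ab_iff.1 hA.2.1.1 a ha y e.1))
  · have e1 := (h.mv a (hA.1 ha)).resolve_left fun e => a1 (mem_cent1_iff_conj.2 e)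
    have e2 := (h'.mv a (hA.1 ha)).resolve_left fun e => a2 (mem_cent1_iff_conj.2 e)
    have e3 : a * (y * v) * a⁻¹ = y * v := by rw [ab_iff.1 hA.2.1.1 a ha _ e.1, mul_inv_cancel_right]
    have e4 : y * v = v * y := (mem_cent1.1 (h3 (mem_sup_right (mem_zpowers v)))).symm
    have e5 : a * y * a⁻¹ = y * v * (a * v * a⁻¹)⁻¹ := by rw [← e3]; group
    rw [e1, e2, mul_assoc, mul_right_inj, mul_inv_rev, inv_eq_of_mul_eq_one_right h'.z2,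
      inv_eq_of_mul_eq_one_right h'.y2] at e5
    have e6 : v * w * (v * w) = 1 := by rw [← e2]; exact GW.conj_sq h'.y2 a
    refine g2 (e5.trans ?_)
    calc v * (w * v) = v * w * (v * w) * w⁻¹ := by group
      _ = w := by rw [e6, one_mul, inv_eq_of_mul_eq_one_right h'.z2]

/-- the hypotheses of the case `C_T(z) = R` -/
structure BH (T : Subgroup X) (y z : X) : Prop where
  hT : IsPGroup 2 T
  hy : y ∈ T
  y2 : y * y = 1
  z2 : z * z = 1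
  z1 : z ≠ 1
  QR : T ⊓ 𝐂[y] ≤ 𝐂[z]
  mv : ∀ g ∈ T ⊓ 𝐂[z], g * y * g⁻¹ = y ∨ g * y * g⁻¹ = y * z
  off : ∃ A ∈ maxElem 2 (T ⊓ 𝐂[z]), ¬ A ≤ 𝐂[y]

namespace BH

variable (h : BH T y z)
include h

theorem yz : y ∈ 𝐂[z] := h.QR ⟨h.hy, mem_cent1_self y⟩

theorem ex : ∃ B ∈ maxElem 2 (T ⊓ 𝐂[z]), B ≤ 𝐂[y] ∧ y ∈ B := by
  obtain ⟨A, hA, h1⟩ := h.off
  exact ⟨_, repl hA ⟨h.hy, h.yz⟩ h.y2 h.mv h1,
    sup_le inf_le_right (zpowers_le.2 (mem_cent1_self y)), mem_sup_right (mem_zpowers y)⟩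

theorem bd : BD (JJ (T ⊓ 𝐂[z])) y z := by
  obtain ⟨B, hB, -, h1⟩ := h.ex
  exact ⟨le_JJ hB h1, h.y2, h.z2, fun b hb => h.mv b (JJ_le _ hb)⟩

theorem off' : ∃ A ∈ maxElem 2 (JJ (T ⊓ 𝐂[z])), ¬ A ≤ 𝐂[y] := by
  obtain ⟨A, hA, h1⟩ := h.off
  exact ⟨A, mem_maxElem_of_le hA (le_JJ hA) (JJ_le _), h1⟩

theorem zJ : z ∈ JJ (T ⊓ 𝐂[z]) := by
  obtain ⟨A, hA, h1⟩ := h.off'
  obtain ⟨a, ha, a1⟩ := SetLike.not_le_iff_exists.1 h1
  have e := (h.bd.mv a (hA.1 ha)).resolve_left fun e => a1 (mem_cent1_iff_conj.2 e)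
  have := mul_mem (mul_mem (hA.1 ha) h.bd.hy) (inv_mem (hA.1 ha))
  rwa [e, mul_mem_cancel_left h.bd.hy] at this

theorem cy (hg : g ∈ T) (e : g ∈ 𝐂[z]) : g * y * g⁻¹ ∈ 𝐂[y] := by
  rcases h.mv g ⟨hg, e⟩ with e' | e' <;> rw [e']
  · exact mem_cent1_self y
  · exact mul_mem (mem_cent1_self y) (mem_cent1_comm.1 h.yz)

theorem count (hA : IsElementaryAbelian 2 A) (hAT : A ≤ T) (hn : A ≤ 𝐍(JJ (T ⊓ 𝐂[z])))
    (hc : ∀ B ∈ maxElem 2 (T ⊓ 𝐂[z]), ♯B ≤ ♯A) : A ≤ 𝐂[z] := by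
  by_contra hz
  have hz' : z ∉ 𝐂(A) := fun e => hz (le_cent1_iff.2 e)
  have hy' : y ∉ 𝐂(A) := fun e => hz ((le_inf hAT (le_cent1_iff.2 e)).trans h.QR)
  have hcy := fun g (hg : g ∈ A) => h.cy (hAT hg)
  obtain ⟨β, hβ, β1, β2⟩ := h.bd.supp hn hcy h.off'
  obtain ⟨B, hB, B1, -⟩ := h.ex
  have bound : ∀ E ≤ T ⊓ 𝐂[y], IsElementaryAbelian 2 E → ♯E ≤ ♯A := fun E h1 h2 =>
    (hB.2.2 E (le_inf (h1.trans inf_le_left) (h1.trans h.QR)) h2).trans (hc B hB)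
  have ab := ab_iff.1 hA.1
  have a2 : ∀ a ∈ A, a * a = 1 := fun a ha => (pow_two a).symm.trans (hA.2 a ha)
  have βz : ∀ g ∈ A, β ∈ 𝐂[g * z * g⁻¹] := fun g hg => by
    rw [cent1_conj, mem_conj]; exact (JJ_le _ (conj_mem_of_norm' (hn hg) hβ)).2
  have hel : IsElementaryAbelian 2 (A ⊓ 𝐂[y] : Subgroup X) := abelem_of_le hA inf_le_left
  have hC : A ⊓ 𝐂[y] ≤ 𝐂(A) := inf_le_left.trans (abelem_le_cent hA)
  have h0 : y ∈ 𝐂(A ⊓ 𝐂[y]) := le_cent1_iff.1 inf_le_right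
  by_cases e : ∃ c ∈ A, c ∉ 𝐂[y] ∧ y * (c * y * c⁻¹) ∈ 𝐂(A)
  · obtain ⟨c, hc, c1, e⟩ := e
    have fix : ∀ d ∈ A, d * y * d⁻¹ * (c * (d * y * d⁻¹) * c⁻¹) = y * (c * y * c⁻¹) := fun d hd => by
      calc _ = d * y * d⁻¹ * ((c * d) * y * (c * d)⁻¹) := by group
        _ = d * (y * (c * y * c⁻¹)) * d⁻¹ := by rw [ab c hc d hd]; group
        _ = _ := by rw [mem_cent_iff.1 e d hd, mul_inv_cancel_right]
    have c2 : c ∉ 𝐂[z] := fun e' => by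
      rw [(h.mv c ⟨hAT hc, e'⟩).resolve_left fun e => c1 (mem_cent1_iff_conj.2 e), ← mul_assoc,
        h.y2, one_mul] at e
      exact hz' e
    have r1 : ∀ b ∈ A, b ∈ 𝐂[z] → b ∈ 𝐂[y] := fun b hb e' => by_contra fun b1 => by
      have h1 := fix b hb
      rw [(h.mv b ⟨hAT hb, e'⟩).resolve_left fun e => b1 (mem_cent1_iff_conj.2 e)] at h1
      have h2 : c * y * c⁻¹ ∈ 𝐂[z] := (JJ_le _ (conj_mem_of_norm (hn hc) h.bd.hy)).2
      refine c2 (mem_cent1_iff_conj.2 ?_)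
      calc c * z * c⁻¹ = (c * y * c⁻¹)⁻¹ * z⁻¹ * y⁻¹ * (y * z * (c * (y * z) * c⁻¹)) := by group
        _ = (c * y * c⁻¹)⁻¹ * (z * (c * y * c⁻¹)) := by
          rw [h1, inv_eq_of_mul_eq_one_right h.z2]; group
        _ = z := by rw [← mem_cent1.1 h2]; group
    have r2 : ∀ d ∈ A, d ∈ 𝐂[y] ∨ c * d ∈ 𝐂[y] := fun d hd => by
      by_contra! h1
      have h2 := mem_cent1_comm.1 (β2 d hd fun e => h1.1 (r1 d hd e))
      have h3 := mem_cent1_comm.1 (β2 _ (mul_mem hc hd) fun e => h1.2 (r1 _ (mul_mem hc hd) e))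
      have h4 := mem_cent1_comm.1 (β2 c hc c2)
      have h5 := mul_mem h2 h3
      rw [show c * d * y * (c * d)⁻¹ = c * (d * y * d⁻¹) * c⁻¹ by group, fix d hd,
        mul_mem_cancel_right h4] at h5
      exact β1 (mem_cent1_comm.1 h5)
    have h1 := card_eq hc r2 c1
    have h2 := two_mul_le (A := A ⊓ 𝐂[y]) (B := (A ⊓ 𝐂[y]) ⊔ zpowers y) (lt_of_le_of_ne le_sup_left
      fun e => hy' (hC (e.ge (mem_sup_right (mem_zpowers y)))))
    have h3 : (A ⊓ 𝐂[y]) ⊔ zpowers y ≤ T ⊓ 𝐂[y] :=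
      sup_le (inf_le_inf_right _ hAT) (zpowers_le.2 ⟨h.hy, mem_cent1_self y⟩)
    have h4 := le_cent1_iff.1 (h3.trans h.QR)
    have h5 := bound _ (sup_le h3 (zpowers_le.2 ⟨(JJ_le _ h.zJ).1, mem_cent1_comm.1 h.yz⟩))
      (abelem_zp (abelem_zp hel h.y2 h0) h.z2 h4)
    have h6 := eq_of_le_of_card_le (le_sup_left (b := zpowers z)) (h5.trans (h1.le.trans h2))
    rcases mem_sup_zp h.y2 h0 (h6.ge (mem_sup_right (mem_zpowers z))) with e' | e'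
    · exact hz' (hC e')
    · have h7 : c * z * c⁻¹ * (c * y * c⁻¹) = z * y := by
        calc _ = c * (z * y) * c⁻¹ := by group
          _ = _ := by rw [ab c hc _ e'.1, mul_inv_cancel_right]
      have h8 := mul_mem (mem_cent1_comm.1 (βz c hc)) (mem_cent1_comm.1 (β2 c hc c2))
      rw [h7, mul_mem_cancel_left (mem_cent1_comm.1 (JJ_le _ hβ).2)] at h8
      exact β1 (mem_cent1_comm.1 h8)
  · push Not at e
    set V := closure {v | ∃ g ∈ A, v = g * y * g⁻¹} with hV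
    have hv : ∀ g ∈ A, g * y * g⁻¹ ∈ V := fun g hg => subset_closure ⟨g, hg, rfl⟩
    have V1 : ∀ g ∈ A, V ≤ 𝐂[g * y * g⁻¹] := fun g hg => by
      rw [hV, closure_le]; rintro _ ⟨k, hk, rfl⟩; exact h.bd.comm hn hcy hk hg
    have V2 : V ≤ 𝐂(V) := by
      nth_rewrite 1 [hV]
      rw [closure_le]; rintro _ ⟨k, hk, rfl⟩; exact le_cent1_iff.1 (V1 k hk)
    have V3 : IsElementaryAbelian 2 V := ⟨ab_iff_le_cent.2 V2, fun v hv => by
      induction hv using closure_induction with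
      | mem _ h1 => obtain ⟨k, -, rfl⟩ := h1; rw [pow_two]; exact GW.conj_sq h.y2 k
      | one => exact one_pow 2
      | mul a b ha hb h1 h2 =>
        rw [Commute.mul_pow (mem_cent_iff.1 (V2 hb) a ha), h1, h2, one_mul]
      | inv a _ h1 => rw [inv_pow, h1, inv_one]⟩
    have V4 : V ≤ T ⊓ 𝐂[y] := le_inf (by
      rw [hV, closure_le]; rintro _ ⟨k, hk, rfl⟩
      exact mul_mem (mul_mem (hAT hk) h.hy) (inv_mem (hAT hk))) (by simpa using V1 1 (one_mem _))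
    have V5 : A ⊓ 𝐂[y] ≤ 𝐂(V) := le_cent_symm (by
      rw [hV, closure_le]; rintro _ ⟨k, hk, rfl⟩
      refine mem_cent_iff.2 fun d hd => ?_
      calc d * (k * y * k⁻¹) = (d * k) * y * k⁻¹ := by group
        _ = k * (d * y) * k⁻¹ := by rw [ab d hd.1 k hk]; group
        _ = k * y * (d * k⁻¹) := by rw [mem_cent1.1 hd.2]; group
        _ = _ := by rw [ab d hd.1 _ (inv_mem hk)]; group)
    have h1 := bound _ (sup_le (inf_le_inf_right _ hAT) V4) (abelem_sup hel V3 V5)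
    set E := (A ⊓ 𝐂[y]) ⊔ V with hE
    have h2 : (𝐂[y]).relIndex A < (𝐂(A)).relIndex E := by
      let f : A ⧸ (𝐂[y]).subgroupOf A → E ⧸ (𝐂(A)).subgroupOf E := fun q =>
        QuotientGroup.mk ⟨_, mem_sup_right (hv _ q.out.2)⟩
      have := Fintype.ofFinite (A ⧸ (𝐂[y]).subgroupOf A)
      have := Fintype.ofFinite (E ⧸ (𝐂(A)).subgroupOf E)
      rw [relIndex, relIndex, index, index, Nat.card_eq_fintype_card, Nat.card_eq_fintype_card]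
      refine Fintype.card_lt_of_injective_of_notMem f (fun q r hqr => ?_)
        (b := QuotientGroup.mk 1) ?_
      · rw [← QuotientGroup.out_eq' q, ← QuotientGroup.out_eq' r, QuotientGroup.eq]
        have h3 : ((q.out : X) * y * (q.out : X)⁻¹)⁻¹ * (r.out * y * (r.out : X)⁻¹) ∈ 𝐂(A) :=
          Subgroup.mem_subgroupOf.1 (QuotientGroup.eq.1 hqr)
        by_contra h4
        refine e _ (mul_mem (inv_mem q.out.2) r.out.2) h4 ?_
        have h5 := conj_mem_of_norm' (le_norm_cent (le_norm_self A) q.out.2) h3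
        convert h5 using 1
        simp only [mul_inv_rev, inv_inv, inv_eq_of_mul_eq_one_right h.y2, mul_assoc,
          inv_mul_cancel_left]
      · rintro ⟨q, hq⟩
        have h3 : ((q.out : X) * y * (q.out : X)⁻¹)⁻¹ * 1 ∈ 𝐂(A) :=
          Subgroup.mem_subgroupOf.1 (QuotientGroup.eq.1 hq)
        have h5 := conj_mem_of_norm' (le_norm_cent (le_norm_self A) q.out.2) h3
        refine hy' (inv_mem_iff.1 ?_)
        convert h5 using 1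
        group
    have h3 := card_inf_mul_relIndex 𝐂[y] A
    have h4 := card_inf_mul_relIndex 𝐂(A) E
    have h5 := card_le (le_inf hC (le_sup_left : A ⊓ 𝐂[y] ≤ E))
    rw [inf_comm] at h3
    have h6 := card_pos' (A ⊓ 𝐂[y])
    nlinarith

theorem JT : JJ (T ⊓ 𝐂[z]) = JJ T := by
  have := Fact.mk Nat.prime_two
  have h1 : T ⊓ 𝐂[z] ≤ T ⊓ 𝐍(JJ (T ⊓ 𝐂[z])) := le_inf inf_le_left
    ((le_norm_self _).trans (normalizer_le_normalizer_thompsonSubgroupOf _))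
  have h2 : JJ (T ⊓ 𝐍(JJ (T ⊓ 𝐂[z]))) ≤ T ⊓ 𝐂[z] := JJ_le_iff.2 fun A hA =>
    le_inf (hA.1.trans inf_le_left) (h.count hA.2.1 (hA.1.trans inf_le_left)
      (hA.1.trans inf_le_right) fun B hB => hA.2.2 B (hB.1.trans h1) hB.2.1)
  have h3 := JJ_eq h2 h1
  have h4 := eq_of_nil_of_inf_norm_le (nil_of_isPGroup h.hT)
    (inf_le_left : T ⊓ 𝐍(JJ (T ⊓ 𝐂[z])) ≤ T) (inf_le_inf_left _ (by
      nth_rewrite 2 [h3]; exact normalizer_le_normalizer_thompsonSubgroupOf _))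
  rw [h3, h4]

end BH

end Beta9

/-- the case `C_T(z) = R` -/
theorem beta9 (hT : IsPGroup 2 T) (hp : (orderOf x).Prime) (hx : x ∈ 𝐍(T)) (hf : T ⊓ 𝐂[x] = ⊥)
    (hni : ∀ t ∈ T, (∀ k, 0 < k → k < orderOf x → x ^ k * t * (x ^ k)⁻¹ ∈ 𝐂[y]) → t ∈ 𝐂[y])
    (hy : y ∈ T) (hzT : z ∈ T) (y2 : y * y = 1) (z2 : z * z = 1) (z1 : z ≠ 1)
    (hQz : ∀ q ∈ T ⊓ 𝐂[y], q * z = z * q)
    (hR : ∀ g ∈ T, g * z = z * g → g * y * g⁻¹ = y ∨ g * y * g⁻¹ = y * z)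
    (hA : A ∈ Transfer.maxElem 2 (T ⊓ 𝐂[z])) (hAy : ¬ A ≤ 𝐂[y]) : False := by
  have h : Beta9.BH T y z := ⟨hT, hy, y2, z2, z1, fun q hq => mem_cent1.2 (hQz q hq),
    fun g hg => hR g hg.1 (mem_cent1.1 hg.2), A, hA, hAy⟩
  have h1 : ∀ g ∈ zpowers x, g ∈ 𝐂[z] → g = 1 := fun g hg e => by_contra fun g1 => by
    have h2 := eq_zpowers_of_prime (by rwa [Nat.card_zpowers]) hg g1
    exact z1 (mem_bot.1 (hf.le ⟨hzT, mem_cent1_comm.1
      (zpowers_le.2 e (h2.ge (mem_zpowers x)))⟩))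
  obtain ⟨β, hβ, β1, β2⟩ := h.bd.supp (Γ := zpowers x) (zpowers_le.2 (by
    rw [h.JT]; exact normalizer_le_normalizer_thompsonSubgroupOf _ hx))
    (fun g hg e => by rw [h1 g hg e]; simpa using mem_cent1_self y) h.off'
  refine β1 (hni β (JJ_le _ hβ).1 fun k k0 k1 => ?_)
  have h3 := β2 (x ^ k)⁻¹ (inv_mem (npow_mem_zpowers x k)) fun e =>
    pow_ne_one_of_lt_orderOf k0.ne' k1 (inv_eq_one.1 (h1 _ (inv_mem (npow_mem_zpowers x k)) e))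
  rw [cent1_conj, mem_conj, inv_inv] at h3
  exact h3

end Cfsg.Agent.CE
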