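import Cfsg.Agent.Lib.CE.S3F

/-!
# `CE`: the minimal counterexample
-/

set_option autoImplicit false
set_option linter.unusedSectionVars false

namespace Cfsg.Agent.CE

open Subgroup Cfsg.Agent.Coprime Cfsg.Agent.OO Cfsg.Agent.GW Cfsg.Agent.SZ
open scoped Pointwise

universe u

variable {X : Type u} [Group X] [Finite X] {G : Subgroup X} {x : X}

/-- a minimal counterexample to `CE` -/
structure Min (G : Subgroup X) (x : X) : Prop where
  prime : (orderOf x).Prime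
  norm : x ∈ 𝐍(G)
  cop : (♯G).Coprime (orderOf x)
  odd : Odd ♯(G ⊓ 𝐂[x])
  smp : Smp G
  nab : ¬ Ab G
  sol : ∀ H, H < G → x ∈ 𝐍(H) → Sol H

theorem Min.not_sol (h : Min G x) : ¬ Sol G := fun e => by
  obtain ⟨S, hS, hle⟩ := exists_minNormalBy (H := G) (M := G)
    (fun e => h.nab (e ▸ inferInstance)) (le_norm_self G)
  obtain ⟨p, -, h1⟩ := hS.exists_abelem (sol_of_le e hle)
  exact h.nab (((h.smp S ⟨hle, hS.norm⟩).resolve_left hS.ne_bot) ▸ h1.1)

theorem Min.two_dvd (h : Min G x) : 2 ∣ ♯G := by_contra fun e =>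
  h.not_sol (sol_of_odd (Nat.not_even_iff_odd.1 fun e' => e e'.two_dvd))

theorem Min.five_le (h : Min G x) : 5 ≤ orderOf x :=
  CE.five_le h.prime h.norm h.cop h.odd h.smp h.nab h.two_dvd

theorem Min.not_conj (h : Min G x) {z g : X} (hz : z ∈ G) (z1 : z ≠ 1) (z2 : z * z = 1)
    (hg : g ∈ G) : x * z * x⁻¹ ≠ g * z * g⁻¹ := CE.not_conj h.norm h.cop h.odd hz z1 z2 hg

/-- the normalizer of a nontrivial solvable subgroup is proper -/
theorem Min.inf_norm_lt (h : Min G x) {U : Subgroup X} (hU : U ≤ G) (u0 : U ≠ ⊥) (hs : Sol U) :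
    G ⊓ 𝐍(U) < G := lt_of_le_of_ne inf_le_left fun e =>
  h.not_sol (((h.smp U ⟨hU, e.ge.trans inf_le_right⟩).resolve_left u0) ▸ hs)

theorem Min.sol_norm (h : Min G x) {U : Subgroup X} (hU : U ≤ G) (u0 : U ≠ ⊥) (hs : Sol U)
    (hx : x ∈ 𝐍(U)) : Sol (G ⊓ 𝐍(U) : Subgroup X) :=
  h.sol _ (h.inf_norm_lt hU u0 hs) (le_norm_inf (zpowers_le.2 h.norm)
    (le_norm_of_le (zpowers_le.2 hx)) (mem_zpowers x))

/-- without proper invariant normal subgroups the group is simple -/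
theorem smp_of (hp : (orderOf x).Prime) (hx : x ∈ 𝐍(G)) (ho : Odd ♯(G ⊓ 𝐂[x])) (h0 : ¬ Sol G)
    (h : ∀ N, N ⊴ G → x ∈ 𝐍(N) → N = ⊥ ∨ N = G) : Smp G := by
  have hF : Fit G = ⊥ := (h _ ⟨Fit_le G, le_norm_Fit (le_norm_self G)⟩
    (le_norm_Fit (zpowers_le.2 hx) (mem_zpowers x))).resolve_right fun e =>
      h0 (e ▸ sol_of_nil (Fit_nil G))
  intro N hN
  refine (em (N = ⊥)).imp_right fun n0 => ?_
  obtain ⟨S, hS, hle⟩ := exists_minNormalBy n0 hN.norm
  have hSG := hle.trans hN.le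
  refine le_antisymm hN.le (by_contra fun e => ?_)
  have h1 : ¬ Sol S := fun e' => hS.ne_bot (eq_bot_iff.2
    ((minnormal_solvable_Fitting_center hS hSG e').trans ((Zc_le _).trans hF.le)))
  have hZ : S ⊓ 𝐂(S) = ⊥ := (hS.eq_bot_or_eq (Zc_le S)
    (hS.norm.trans (norm_le_norm_Zc S))).resolve_right fun e' => h1 (sol_of_ab (Zc_eq_self_iff.1 e'))
  have h2 : ∀ n, 0 < n → n < orderOf x → (x ^ n) •ᶜ S ≤ 𝐂(S) := fun n n1 n2 => by
    have h3 : G ≤ 𝐍((x ^ n) •ᶜ S) := by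
      rw [norm_conj, ← conj_eq_of_mem_norm (pow_mem hx n)]
      exact conj_le_conj_iff.2 hS.norm
    have h4 : (x ^ n) •ᶜ S ≤ G := by
      rw [← conj_eq_of_mem_norm (pow_mem hx n)]
      exact conj_le_conj_iff.2 hSG
    rcases hS.inf_eq_bot_or_le h3 with e' | e'
    · exact le_cent_of_inf_eq_bot (h4.trans hS.norm) (hSG.trans h3) (inf_comm S _ ▸ e')
    have h5 : x ^ n ∈ 𝐍(S) :=
      conj_eq_self_iff.1 (eq_of_le_of_card_le e' (card_conj _ _).le).symm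
    have h6 : x ∈ zpowers (x ^ n) := mem_zpowers_pow_iff.2
      (Nat.coprime_of_lt_prime n1.ne' n2 hp).symm
    rcases h S ⟨hSG, hS.norm⟩ (zpowers_le.2 h5 h6) with e'' | e''
    · exact absurd e'' hS.ne_bot
    · exact absurd (e''.ge.trans hle) e
  have := Fact.mk Nat.prime_two
  obtain ⟨s, hs, s2⟩ := cauchy (H := S) Nat.prime_two
    (by_contra fun e' => h1 (sol_of_odd (Nat.not_even_iff_odd.1 fun e'' => e' e''.two_dvd)))
  have h3 : ∀ n, n < orderOf x → ∃ c ∈ G ⊓ 𝐂(S), (s * x) ^ (n + 1) = s * c * x ^ (n + 1) := by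
    intro n
    induction n with
    | zero => exact fun _ => ⟨1, one_mem _, by simp⟩
    | succ n ih =>
      intro hn
      obtain ⟨c, hc, e'⟩ := ih (by omega)
      refine ⟨c * (x ^ (n + 1) * s * (x ^ (n + 1))⁻¹), mul_mem hc ⟨conj_mem_of_norm (pow_mem hx _)
        (hSG hs), h2 _ (by omega) hn (mem_conj_iff_exists.2 ⟨s, hs, rfl⟩)⟩, ?_⟩
      rw [pow_succ, e', pow_succ x (n + 1)]
      group
  obtain ⟨c, hc, h4⟩ := h3 (orderOf x - 1) (by have := hp.pos; omega)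
  rw [Nat.sub_add_cancel hp.pos, pow_orderOf_eq_one, mul_one] at h4
  have h5 : Commute s c := mem_cent_iff.1 hc.2 s hs
  have h6 : s * c ∈ G ⊓ 𝐂[x] := ⟨G.mul_mem (hSG hs) hc.1, mem_cent1.2 (by
    have h7 : Commute (s * c) (s * x) := h4 ▸ Commute.pow_self _ _
    have h8 : Commute (s * c) s := (Commute.refl s).mul_left h5.symm
    have h9 := h8.inv_right.mul_right h7
    rwa [inv_mul_cancel_left] at h9)⟩
  obtain ⟨m, hm⟩ := ho
  have h7 : (s * c) ^ (2 * m + 1) = 1 := orderOf_dvd_iff_pow_eq_one.1 (hm ▸ orderOf_dvd_card h6)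
  rw [h5.mul_pow, pow_succ s, pow_mul, ← s2, pow_orderOf_eq_one, one_pow, one_mul] at h7
  have h8 : s = 1 := mem_bot.1 (hZ.le ⟨hs, by
    rw [eq_inv_of_mul_eq_one_left h7]; exact (𝐂(S)).inv_mem ((𝐂(S)).pow_mem hc.2 _)⟩)
  rw [h8, orderOf_one] at s2
  omega

/-- `CE` holds if there is no minimal counterexample -/
theorem ce_of_min (h : ∀ (X : Type u) [Group X] [Finite X] (G : Subgroup X) (x : X), ¬ Min G x) :
    CE.{u} := by
  suffices H : ∀ n : ℕ, ∀ (X : Type u) [Group X] [Finite X] (G : Subgroup X) (x : X), ♯G = n →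
      (orderOf x).Prime → x ∈ 𝐍(G) → (♯G).Coprime (orderOf x) → Odd ♯(G ⊓ 𝐂[x]) → Sol G from
    fun X _ _ G x => H _ X G x rfl
  intro n
  induction n using Nat.strong_induction_on with
  | _ n ih =>
  intro X _ _ G x hn hp hx hc ho
  have h1 : ∀ H, H < G → x ∈ 𝐍(H) → Sol H := fun H e1 e2 =>
    ih _ (hn ▸ card_lt e1) X H x rfl hp e2 (hc.coprime_dvd_left (card_dvd e1.le))
      (ho.of_dvd_nat (card_dvd (inf_le_inf_right _ e1.le)))
  by_contra h0
  refine h X G x ⟨hp, hx, hc, ho, smp_of hp hx ho h0 fun N hN e => ?_,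
    fun e => h0 (sol_of_ab e), h1⟩
  by_contra! e'
  have h2 := h1 N (lt_of_le_of_ne hN.le e'.2) e
  have h3 : (♯N).Coprime ♯(zpowers x) := by
    rw [Nat.card_zpowers]; exact hc.coprime_dvd_left (card_dvd hN.le)
  have h4 : orderOf (coset N x) = orderOf x := by
    rw [← Nat.card_zpowers, ← quo_zpowers e, card_quo_of_coprime (zpowers_le.2 e) h3,
      Nat.card_zpowers]
  refine h0 (sol_of_normal_of_quo hN h2 (ih _ (hn ▸ card_quo_lt hN.le e'.1) _ (G ⁒ N) (coset N x)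
    rfl (h4 ▸ hp) (coset_mem_norm N hx) (h4 ▸ hc.coprime_dvd_left (card_quo_dvd G N)) ?_))
  have h5 := quo_inf_cent hN.le (zpowers_le.2 e) h3 (.inl h2)
  rw [quo_zpowers e, cent_zpowers, cent_zpowers] at h5
  exact h5 ▸ ho.of_dvd_nat (card_quo_dvd _ N)

end Cfsg.Agent.CE
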