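import Cfsg.Agent.Lib.CE.HH
import Cfsg.Agent.Lib.CE.Min
import Cfsg.Agent.Lib.ZN.Baumann

/-!
# The data of the minimal counterexample and the configuration `(U, Q, K, R)`
-/

set_option autoImplicit false

namespace Cfsg.Agent.CE

open Subgroup Cfsg.Agent.OO Cfsg.Agent.ZN
open scoped Pointwise

universe u

variable {X : Type u} [Group X]

/-- `Ω₁ Z(T)` -/
abbrev Zt (T : Subgroup X) : Subgroup X := Ohm 2 (Zc T)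

/-- the points: conjugates of `Ω₁ Z(T)` -/
def Pt (G T Y : Subgroup X) : Prop := ∃ g ∈ G, Y = g •ᶜ Zt T

/-- 2-subgroups with two different points in the centre -/
def II (G T I : Subgroup X) : Prop :=
  I ≤ G ∧ IsPGroup 2 I ∧ ∃ Y₁ Y₂, Pt G T Y₁ ∧ Pt G T Y₂ ∧ Y₁ ≠ Y₂ ∧ Y₁ ≤ Zc I ∧ Y₂ ≤ Zc I

/-- the configuration selected in `SEL`; the points of `Del` are the `k •ᶜ Zt T`, `k ∈ K` -/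
structure Cfg (G T U Q K R : Subgroup X) : Prop where
  ii : II G T U
  JU : JJ U = U
  max1 : ∀ I, II G T I → ∀ A ≤ I, IsElementaryAbelian 2 A → ∀ B ∈ Transfer.maxElem 2 U, ♯A ≤ ♯B
  max2 : ∀ I, II G T I → ∀ A ≤ I, IsElementaryAbelian 2 A → ∀ B ∈ Transfer.maxElem 2 U, ♯B ≤ ♯A →
    ♯(JJ I) ≤ ♯U
  hR : R = T ⊓ 𝐍(U)
  sylU : Syl 2 R (G ⊓ 𝐍(U))
  ZU : Zt T ≤ Zc U
  UQ : U ≤ Q
  QR : Q ≤ R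
  JQ : JJ Q = U
  hK : K = G ⊓ 𝐍(Q)
  KU : K ≤ 𝐍(U)
  RK : R ≤ K
  sylK : Syl 2 R K
  /-- the points of `Del` lie in `W = Ω₁ Z(Q)` -/
  ptW : ∀ k ∈ K, k •ᶜ Zt T ≤ Ohm 2 (Zc Q)
  /-- a 2-subgroup of `N(U)` fixing all points of `Del` lies in `Q` up to the kernel; inside `K`
  it lies in `Q` -/
  ker : ∀ P ≤ K, IsPGroup 2 P → (∀ k ∈ K, P ≤ 𝐍(k •ᶜ Zt T)) → P ≤ Q
  /-- `Z ^ N(U) = Z ^ K` -/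
  del : ∀ n ∈ G ⊓ 𝐍(U), ∃ k ∈ K, n •ᶜ Zt T = k •ᶜ Zt T
  two : ∃ k ∈ K, k •ᶜ Zt T ≠ Zt T
  /-- (HU) -/
  hu : ∀ A ≤ G ⊓ 𝐍(U), IsElementaryAbelian 2 A → (∀ B ∈ Transfer.maxElem 2 U, ♯B ≤ ♯A) → ¬ A ≤ U →
    ∀ Y₁ Y₂, Pt G T Y₁ → Pt G T Y₂ → Y₁ ≤ Zc U → Y₂ ≤ Zc U → A ≤ 𝐂(Y₁) → A ≤ 𝐂(Y₂) → Y₁ = Y₂
  off : ∃ A ∈ Transfer.maxElem 2 R, ¬ A ≤ Q

end Cfsg.Agent.CE
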