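import Cfsg.Agent.Lib.CE.Cfg

/-!
# Depth arguments in a 2-group with a fixed-point-free automorphism of prime order
-/

set_option autoImplicit false
set_option linter.unusedSectionVars false

namespace Cfsg.Agent.CE.Depth

open Subgroup
open scoped commutatorElement

universe u

variable {P : Type u} [Group P]

/-- the normaliser of `C(y)` moves `y` only to `y * z` -/
structure Hyp (y z : P) : Prop where
  y2 : y * y = 1
  z1 : z ≠ 1
  z2 : z * z = 1
  cz : ∀ q, Commute q y → Commute q z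
  hN : ∀ s, (∀ q, Commute q y → Commute q (s * y * s⁻¹)) → s * y * s⁻¹ = y ∨ s * y * s⁻¹ = y * z

/-- `z` is not a commutator in `C(y)` -/
def NC (y z : P) : Prop := ∀ a b, Commute a y → Commute b y → ⁅a, b⁆ ≠ z

theorem commute_map (ψ : MulAut P) {a b : P} : Commute (ψ a) (ψ b) ↔ Commute a b :=
  ⟨fun h => ψ.injective (by simpa only [map_mul] using h.eq), fun h => h.map ψ⟩

theorem Hyp.map {y z : P} (h : Hyp y z) (ψ : MulAut P) : Hyp (ψ y) (ψ z) where
  y2 := by rw [← map_mul, h.y2, map_one]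
  z1 := fun e => h.z1 (ψ.injective (e.trans (map_one ψ).symm))
  z2 := by rw [← map_mul, h.z2, map_one]
  cz := fun q hq => by
    obtain ⟨q, rfl⟩ := ψ.surjective q
    exact (commute_map ψ).2 (h.cz q ((commute_map ψ).1 hq))
  hN := fun s hs => by
    obtain ⟨s, rfl⟩ := ψ.surjective s
    have e : ψ s * ψ y * (ψ s)⁻¹ = ψ (s * y * s⁻¹) := by simp only [map_mul, map_inv]
    rw [e] at hs ⊢
    rcases h.hN s (fun q hq => (commute_map ψ).1 (hs _ ((commute_map ψ).2 hq))) with a | a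
    · left; rw [a]
    · right; rw [a, map_mul]

theorem NC.map {y z : P} (h : NC y z) (ψ : MulAut P) : NC (ψ y) (ψ z) := fun a b ha hb e => by
  obtain ⟨a, rfl⟩ := ψ.surjective a
  obtain ⟨b, rfl⟩ := ψ.surjective b
  refine h a b ((commute_map ψ).1 ha) ((commute_map ψ).1 hb) (ψ.injective ?_)
  rw [← e, map_commutatorElement]

variable [Finite P]

theorem exists_norm (hP : IsPGroup 2 P) {D Q : Subgroup P} (h : D ≤ Q) (hne : ¬ Q ≤ D) :
    ∃ e ∈ Q, e ∉ D ∧ ∀ d ∈ D, e * d * e⁻¹ ∈ D := by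
  have : Fact (Nat.Prime 2) := ⟨Nat.prime_two⟩
  have : Group.IsNilpotent Q := (hP.to_subgroup Q).isNilpotent
  have h1 : D.subgroupOf Q < ⊤ := lt_top_iff_ne_top.2 fun e => hne (subgroupOf_eq_top.1 e)
  obtain ⟨e, he, he'⟩ := SetLike.exists_of_lt (Group.normalizerCondition_of_isNilpotent _ h1)
  refine ⟨e, e.2, fun a => he' (mem_subgroupOf.2 a), fun d hd => ?_⟩
  exact mem_subgroupOf.1 ((mem_normalizer_iff.1 he ⟨d, h hd⟩).1 (mem_subgroupOf.2 hd))

theorem step (hP : IsPGroup 2 P) {y z d s : P} (h : Hyp y z) (d1 : d ≠ 1) (hd : Commute d y)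
    (hs : s * y * s⁻¹ = y * d) : d = z ∨ ∃ e, Commute e y ∧ s⁻¹ * ⁅d⁻¹, e⁆ * s ≠ 1 ∧
      Commute (s⁻¹ * ⁅d⁻¹, e⁆ * s) y ∧
      (s⁻¹ * e * s) * y * (s⁻¹ * e * s)⁻¹ = y * (s⁻¹ * ⁅d⁻¹, e⁆ * s) := by
  by_cases hQ : centralizer {y} ≤ centralizer {y} ⊓ centralizer {d}
  · left
    rcases h.hN s (fun q hq => by
      rw [hs]
      exact hq.mul_right (mem_centralizer_singleton_iff.1
        (hQ (mem_centralizer_singleton_iff.2 hq)).2)) with a | a
    · exact absurd (mul_eq_left.1 (hs.symm.trans a)) d1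
    · exact mul_left_cancel (hs.symm.trans a)
  · right
    obtain ⟨e, he, he1, he2⟩ := exists_norm hP inf_le_left hQ
    have ey : Commute e y := mem_centralizer_singleton_iff.1 he
    have h2 := he2 d ⟨mem_centralizer_singleton_iff.2 hd, mem_centralizer_singleton_iff.2 rfl⟩
    have h3 : Commute (e * d * e⁻¹) d := mem_centralizer_singleton_iff.1 h2.2
    have hy : y = s⁻¹ * (y * d) * s := by rw [← hs]; group
    refine ⟨e, ey, fun a => he1 ⟨he, mem_centralizer_singleton_iff.2 ?_⟩, ?_, ?_⟩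
    · have : ⁅d⁻¹, e⁆ = 1 := by
        have := congrArg (fun w => s * w * s⁻¹) a
        simpa [mul_assoc] using this
      exact (Commute.inv_left_iff.1 (commutatorElement_eq_one_iff_commute.1 this)).symm.eq
    · have h4 : Commute ⁅d⁻¹, e⁆ (y * d) := by
        have : ⁅d⁻¹, e⁆ = d⁻¹ * (e * d * e⁻¹) := by rw [commutatorElement_def]; group
        rw [this]
        exact ((hd.inv_left.mul_left ((ey.mul_left hd).mul_left ey.inv_left))).mul_right
          ((Commute.refl d).inv_left.mul_left h3)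
      have := h4.map (MulAut.conj s⁻¹)
      simp only [MulAut.conj_apply, inv_inv] at this
      rwa [← hy] at this
    · calc (s⁻¹ * e * s) * y * (s⁻¹ * e * s)⁻¹ = s⁻¹ * (e * (s * y * s⁻¹) * e⁻¹) * s := by group
        _ = s⁻¹ * ((e * y) * d * e⁻¹) * s := by rw [hs]; group
        _ = s⁻¹ * ((y * e) * d * e⁻¹) * s := by rw [ey.eq]
        _ = (s⁻¹ * (y * d) * s) * (s⁻¹ * ⁅d⁻¹, e⁆ * s) := by rw [commutatorElement_def]; group
        _ = _ := by rw [← hy]

theorem step_mem {d e s : P} {i : ℕ} (h : d ∈ Subgroup.upperCentralSeries P (i + 1)) :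
    s⁻¹ * ⁅d⁻¹, e⁆ * s ∈ Subgroup.upperCentralSeries P i := by
  have h1 : ⁅d⁻¹, e⁆ ∈ Subgroup.upperCentralSeries P i := Subgroup.mem_upperCentralSeries_succ_iff.1 (inv_mem h) e
  simpa using (inferInstance : (Subgroup.upperCentralSeries P i).Normal).conj_mem _ h1 s⁻¹

theorem depth_le (hP : IsPGroup 2 P) {y z : P} (h : Hyp y z) (i : ℕ) : ∀ d s : P, d ≠ 1 →
    Commute d y → s * y * s⁻¹ = y * d → d ∈ Subgroup.upperCentralSeries P i →
      z ∈ Subgroup.upperCentralSeries P i := by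
  induction i with
  | zero => exact fun d s d1 _ _ hd => absurd (mem_bot.1 hd) d1
  | succ i ih =>
    intro d s d1 hd hs hi
    rcases step hP h d1 hd hs with rfl | ⟨e, -, a, b, c⟩
    · exact hi
    · exact Subgroup.upperCentralSeries_mono P (Nat.le_succ i) (ih _ _ a b c (step_mem hi))

theorem eq_of_comm (hP : IsPGroup 2 P) {y z : P} (h : Hyp y z) (nc : NC y z) (i : ℕ) :
    ∀ d s : P, d ≠ 1 → Commute d y → s * y * s⁻¹ = y * d → Commute s z →
      d ∈ Subgroup.upperCentralSeries P i → d = z := by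
  induction i with
  | zero => exact fun d s d1 _ _ _ hd => absurd (mem_bot.1 hd) d1
  | succ i ih =>
    intro d s d1 hd hs hz hi
    rcases step hP h d1 hd hs with a | ⟨e, he, a, b, c⟩
    · exact a
    · have h1 := ih _ _ a b c ((hz.inv_left.mul_left (h.cz e he)).mul_left hz) (step_mem hi)
      refine absurd ?_ (nc d⁻¹ e hd.inv_left he)
      calc ⁅d⁻¹, e⁆ = s * (s⁻¹ * ⁅d⁻¹, e⁆ * s) * s⁻¹ := by group
        _ = s * z * s⁻¹ := by rw [h1]
        _ = z := by rw [hz.eq]; group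

theorem dihedral (hP : IsPGroup 2 P) {y b : P} (y2 : y * y = 1) (b2 : b * b = 1)
    (h : ¬ Commute y b) : ∃ s d : P, (∀ w, Commute y w → Commute b w → Commute s w) ∧ d ≠ 1 ∧
      Commute d y ∧ Commute d b ∧ s * y * s⁻¹ = y * d ∧ s * b * s⁻¹ = b * d := by
  classical
  have yi : y⁻¹ = y := inv_eq_of_mul_eq_one_right y2
  have bi : b⁻¹ = b := inv_eq_of_mul_eq_one_right b2
  have hex : ∃ k, (y * b) ^ 2 ^ k = 1 := hP (y * b)
  have h1 : ¬ (y * b) ^ 2 ^ 1 = 1 := fun e => h (by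
    have : y * b = (y * b)⁻¹ := eq_inv_of_mul_eq_one_right (by simpa [pow_two] using e)
    rw [mul_inv_rev, yi, bi] at this
    exact this)
  have h0 : ¬ (y * b) ^ 2 ^ 0 = 1 := fun e => h1 (by
    rw [pow_zero, pow_one] at e
    rw [e, one_pow])
  obtain ⟨m, hm⟩ : ∃ m, Nat.find hex = m + 2 := by
    refine ⟨Nat.find hex - 2, ?_⟩
    have a := Nat.find_spec hex
    have : Nat.find hex ≠ 0 := fun e => h0 (e ▸ a)
    have : Nat.find hex ≠ 1 := fun e => h1 (e ▸ a)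
    omega
  have h2 : (y * b) ^ 2 ^ (m + 2) = 1 := hm ▸ Nat.find_spec hex
  have h3 : ¬ (y * b) ^ 2 ^ (m + 1) = 1 := Nat.find_min hex (by omega)
  set s := (y * b) ^ 2 ^ m with hs
  have e1 : s * s = (y * b) ^ 2 ^ (m + 1) := by rw [hs, ← pow_add]; congr 1; ring
  have e2 : (s * s) * (s * s) = 1 := by rw [e1, ← pow_add, ← h2]; congr 1; ring
  have inv : ∀ w : P, w⁻¹ = w → w * (y * b) * w⁻¹ = (y * b)⁻¹ →
      Commute (s * s) w ∧ s * w * s⁻¹ = w * (s * s) := fun w wi hw => by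
    have a : w * s * w⁻¹ = s⁻¹ := by rw [hs, ← conj_pow, hw, inv_pow]
    have di : (s * s)⁻¹ = s * s := inv_eq_of_mul_eq_one_right e2
    have a' : s * w = w * s⁻¹ := by
      calc s * w = w⁻¹ * (w * s * w⁻¹) * w⁻¹⁻¹ * w := by group
        _ = w * s⁻¹ * (w⁻¹⁻¹ * w) := by rw [a, wi]; group
        _ = w * s⁻¹ := by
          rw [inv_inv]
          nth_rewrite 2 [← wi]
          group
    constructor
    · change s * s * w = w * (s * s)
      calc s * s * w = s * (s * w) := by group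
        _ = (s * w) * s⁻¹ := by rw [mul_assoc s w, ← a']
        _ = w * (s * s)⁻¹ := by rw [a']; group
        _ = _ := by rw [di]
    · calc s * w * s⁻¹ = w * (s * s)⁻¹ := by rw [a']; group
        _ = _ := by rw [di]
  have i1 := inv y yi (by rw [mul_inv_rev, yi, bi, ← mul_assoc, y2, one_mul])
  have i2 := inv b bi (by rw [mul_inv_rev, yi, bi, mul_assoc, mul_assoc, b2, mul_one])
  exact ⟨s, s * s, fun w a c => (a.mul_left c).pow_left _, e1 ▸ h3, i1.1, i2.1, i1.2, i2.2⟩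

theorem comm_of_depth (hP : IsPGroup 2 P) {y z b : P} (h : Hyp y z) (b2 : b * b = 1) {i : ℕ}
    (hb : b ∈ Subgroup.upperCentralSeries P (i + 1)) (hz : z ∉ Subgroup.upperCentralSeries P i) : Commute y b := by
  by_contra hc
  obtain ⟨s, d, -, d1, dy, -, a, c⟩ := dihedral hP h.y2 b2 hc
  refine hz (depth_le hP h i d s d1 dy a ?_)
  have : d = ⁅b⁻¹, s⁆ := by
    rw [commutatorElement_def, inv_inv, mul_assoc, mul_assoc, ← mul_assoc s, c]; group
  rw [this]
  exact Subgroup.mem_upperCentralSeries_succ_iff.1 (inv_mem hb) s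

theorem exists_top (hP : IsPGroup 2 P) (g : P) : ∃ i, g ∈ Subgroup.upperCentralSeries P i := by
  have : Fact (Nat.Prime 2) := ⟨Nat.prime_two⟩
  obtain ⟨n, hn⟩ := hP.isNilpotent.nilpotent
  exact ⟨n, hn ▸ mem_top g⟩

/-- every automorphic image of `z` centralises `y` -/
theorem comm_map (hP : IsPGroup 2 P) {y z : P} (h : Hyp y z) (ψ : MulAut P) :
    Commute y (ψ z) := by
  classical
  have hex := exists_top hP z
  obtain ⟨i, hi⟩ : ∃ i, Nat.find hex = i + 1 :=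
    Nat.exists_eq_succ_of_ne_zero fun e => h.z1 (mem_bot.1 (e ▸ Nat.find_spec hex :))
  have h1 : z ∈ Subgroup.upperCentralSeries P (i + 1) := hi ▸ Nat.find_spec hex
  refine comm_of_depth hP h (h.map ψ).z2 (i := i) ?_ (Nat.find_min hex (by omega))
  exact characteristic_iff_le_comap.1 inferInstance ψ h1

theorem comm_map₂ (hP : IsPGroup 2 P) {y z : P} (h : Hyp y z) (ψ χ : MulAut P) :
    Commute (ψ y) (χ z) := by
  have := comm_map hP (h.map ψ) (χ * ψ⁻¹)
  simpa using this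

theorem comm_of_ne (hP : IsPGroup 2 P) {y z : P} (h : Hyp y z) (nc : NC y z) (ψ : MulAut P)
    (hne : ψ z ≠ z) : Commute y (ψ y) := by
  by_contra hc
  obtain ⟨s, d, hs, d1, dy, db, a, c⟩ := dihedral hP h.y2 (h.map ψ).y2 hc
  obtain ⟨i, hi⟩ := exists_top hP d
  have e1 := eq_of_comm hP h nc i d s d1 dy a
    (hs z (h.cz y (Commute.refl y)) (comm_map₂ hP h ψ 1)) hi
  have e2 := eq_of_comm hP (h.map ψ) (nc.map ψ) i d s d1 db c
    (hs (ψ z) (comm_map hP h ψ) ((h.map ψ).cz _ (Commute.refl _))) hi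
  exact hne (e2.symm.trans e1)

theorem pow_ne {φ : MulAut P} {r : ℕ} (hr : r.Prime) (hφ : φ ^ r = 1)
    (fpf : ∀ g, φ g = g → g = 1) {z : P} (z1 : z ≠ 1) {k : ℕ} (k0 : 0 < k) (kr : k < r) :
    (φ ^ k) z ≠ z := fun e => by
  obtain ⟨m, -, hm⟩ := Nat.exists_mul_mod_eq_one_of_coprime
    (((Nat.Prime.coprime_iff_not_dvd hr).2 (Nat.not_dvd_of_pos_of_lt k0 kr)).symm) hr.one_lt
  have h1 : φ ^ k ∈ MulAction.stabilizer (MulAut P) z := e
  have h2 := pow_mem h1 m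
  rw [← pow_mul, ← Nat.div_add_mod (k * m) r, hm, pow_add, pow_mul, hφ, one_pow, one_mul,
    pow_one] at h2
  exact z1 (fpf z h2)

theorem iter_eq (φ : MulAut P) (k : ℕ) (g : P) : φ^[k] g = (φ ^ k) g := by
  induction k with
  | zero => rfl
  | succ k ih => rw [Function.iterate_succ_apply', ih, pow_succ', MulAut.mul_apply]

/-- the norm identity -/
theorem mem_of_pow_mem {φ : MulAut P} {r : ℕ} (r0 : 0 < r) (hφ : φ ^ r = 1)
    (fpf : ∀ g, φ g = g → g = 1) {H : Subgroup P} {a : P}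
    (h : ∀ k, 0 < k → k < r → (φ ^ k) a ∈ H) : a ∈ H := by
  have h1 := MonoidHom.FixedPointFree.prod_pow_eq_one (φ := φ) fpf (n := r)
    (by ext g; rw [iter_eq, hφ]; rfl) a
  obtain ⟨n, rfl⟩ : ∃ n, r = n + 1 := ⟨r - 1, by omega⟩
  rw [List.range_succ_eq_map, List.map_cons, List.prod_cons] at h1
  have h2 := eq_inv_of_mul_eq_one_left h1
  simp only [Function.iterate_zero, id] at h2
  rw [h2]
  refine inv_mem (list_prod_mem fun g hg => ?_)
  simp only [List.mem_map, List.mem_range] at hg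
  obtain ⟨_, ⟨k, hk, rfl⟩, rfl⟩ := hg
  rw [iter_eq]
  exact h _ (Nat.succ_pos k) (by omega)

theorem a1 (hP : IsPGroup 2 P) {y z t : P} (h : Hyp y z) (nc : NC y z) {φ : MulAut P} {r : ℕ}
    (hr : r.Prime) (hφ : φ ^ r = 1) (fpf : ∀ g, φ g = g → g = 1) (tz : t * z * t⁻¹ = z) :
    Commute y (t * y * t⁻¹) := by
  have := mem_of_pow_mem hr.pos hφ fpf (H := centralizer {y}) (a := t * y * t⁻¹) fun k k0 kr =>
    mem_centralizer_singleton_iff.2 (comm_of_ne hP h nc (φ ^ k * MulAut.conj t) (by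
      rw [MulAut.mul_apply, MulAut.conj_apply, tz]
      exact pow_ne hr hφ fpf h.z1 k0 kr)).symm.eq
  exact (show Commute (t * y * t⁻¹) y from mem_centralizer_singleton_iff.1 this).symm

end Cfsg.Agent.CE.Depth

namespace Cfsg.Agent.CE

open Subgroup Cfsg.Agent.OO
open scoped Pointwise commutatorElement

universe u

variable {X : Type u} [Group X] [Finite X] {T : Subgroup X} {x y z t : X}

theorem depth_hyp (hy : y ∈ T) (hzT : z ∈ T) (y2 : y * y = 1) (z2 : z * z = 1) (z1 : z ≠ 1)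
    (hQz : ∀ q ∈ T ⊓ 𝐂[y], q * z = z * q)
    (hN : ∀ g ∈ T, g ∈ 𝐍(T ⊓ 𝐂[y]) → g * y * g⁻¹ = y ∨ g * y * g⁻¹ = y * z) :
    Depth.Hyp (⟨y, hy⟩ : T) ⟨z, hzT⟩ where
  y2 := Subtype.ext y2
  z1 := fun e => z1 (congrArg Subtype.val e)
  z2 := Subtype.ext z2
  cz := fun q hq => Subtype.ext (hQz q ⟨q.2, mem_centralizer_singleton_iff.2
    (congrArg Subtype.val hq.eq)⟩)
  hN := fun s hs => by
    have h1 : (s : X)⁻¹ ∈ 𝐍(T ⊓ 𝐂[y]) := by
      refine mem_norm_of_conj_mem fun w hw => ⟨T.mul_mem (T.mul_mem (T.inv_mem s.2) hw.1)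
        (T.inv_mem (T.inv_mem s.2)), mem_centralizer_singleton_iff.2 ?_⟩
      have h2 := congrArg Subtype.val (hs ⟨w, hw.1⟩
        (Subtype.ext (mem_centralizer_singleton_iff.1 hw.2))).eq
      simp only [Subgroup.coe_mul, Subgroup.coe_inv] at h2
      calc (s : X)⁻¹ * w * (s : X)⁻¹⁻¹ * y = (s : X)⁻¹ * (w * (s * y * (s : X)⁻¹)) * s := by group
        _ = _ := by rw [h2]; group
    rcases hN s s.2 (by simpa using inv_mem h1) with a | a
    · exact .inl (Subtype.ext a)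
    · exact .inr (Subtype.ext a)

/-- conjugation by an element of the normaliser -/
noncomputable def depthAut (hx : x ∈ 𝐍(T)) : MulAut T := T.normalizerMonoidHom ⟨x, hx⟩

theorem depthAut_apply (hx : x ∈ 𝐍(T)) (g : T) : (depthAut hx g : X) = x * g * x⁻¹ := rfl

/-- all `N(T)`-conjugates of `z` centralise `y` -/
theorem depth_comm (hT : IsPGroup 2 T) (hy : y ∈ T) (hzT : z ∈ T) (y2 : y * y = 1)
    (z2 : z * z = 1) (z1 : z ≠ 1) (hQz : ∀ q ∈ T ⊓ 𝐂[y], q * z = z * q)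
    (hN : ∀ g ∈ T, g ∈ 𝐍(T ⊓ 𝐂[y]) → g * y * g⁻¹ = y ∨ g * y * g⁻¹ = y * z) (hx : x ∈ 𝐍(T)) :
    Commute y (x * z * x⁻¹) :=
  congrArg Subtype.val (Depth.comm_map hT (depth_hyp hy hzT y2 z2 z1 hQz hN) (depthAut hx)).eq

theorem depth_a1 (hT : IsPGroup 2 T) (hp : (orderOf x).Prime) (hx : x ∈ 𝐍(T))
    (hf : T ⊓ 𝐂[x] = ⊥) (hy : y ∈ T) (hzT : z ∈ T) (y2 : y * y = 1) (z2 : z * z = 1)
    (z1 : z ≠ 1) (hQz : ∀ q ∈ T ⊓ 𝐂[y], q * z = z * q)
    (hN : ∀ g ∈ T, g ∈ 𝐍(T ⊓ 𝐂[y]) → g * y * g⁻¹ = y ∨ g * y * g⁻¹ = y * z)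
    (hz : ∀ g ∈ T ⊓ 𝐂[y], ∀ u ∈ T ⊓ 𝐂[y], g * u * g⁻¹ * u⁻¹ ≠ z) (ht : t ∈ T)
    (htz : t * z * t⁻¹ = z) (hv : t * y * t⁻¹ ∉ 𝐂[y]) : False := by
  have h := Depth.a1 hT (depth_hyp hy hzT y2 z2 z1 hQz hN) (t := ⟨t, ht⟩) (φ := depthAut hx)
    (fun a b ha hb e => hz a ⟨a.2, mem_centralizer_singleton_iff.2 (congrArg Subtype.val ha.eq)⟩
      b ⟨b.2, mem_centralizer_singleton_iff.2 (congrArg Subtype.val hb.eq)⟩
      (congrArg Subtype.val e)) hp
    (by
      rw [depthAut, ← map_pow]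
      have : (⟨x, hx⟩ : 𝐍(T)) ^ orderOf x = 1 := Subtype.ext (pow_orderOf_eq_one x)
      rw [this, map_one])
    (fun g e => Subtype.ext (by
      have h1 : x * g * x⁻¹ = g := congrArg Subtype.val e
      have h2 : (g : X) ∈ T ⊓ 𝐂[x] := ⟨g.2, mem_centralizer_singleton_iff.2 (by
        nth_rewrite 1 [← h1]; group)⟩
      rw [hf] at h2
      exact h2)) (Subtype.ext htz)
  exact hv (mem_centralizer_singleton_iff.2 (congrArg Subtype.val h.symm.eq))

end Cfsg.Agent.CE
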