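import Cfsg.Agent.Lib.CE.Q2

/-!
# The case `q = 2`: no transvection on `J(Q)` with centre `z`
-/

set_option autoImplicit false
set_option linter.unusedSectionVars false

namespace Cfsg.Agent.CE

open Subgroup Cfsg.Agent.OO Cfsg.Agent.ZN
open scoped Pointwise

universe u

variable {X : Type u} [Group X] [Finite X] {T Q R A B C D E U Y : Subgroup X}
  {a b c d y z g s r t v w w' z' : X}

theorem card_le_two_mul (hC : C ≤ E) (h : ∀ a ∈ E, ∀ b ∈ E, a ∉ C → b ∉ C → a * b ∈ C) :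
    ♯E ≤ 2 * ♯C := by
  by_cases e : E ≤ C
  · have := card_le e
    omega
  obtain ⟨a, ha, a1⟩ := SetLike.not_le_iff_exists.1 e
  have h1 : (C.subgroupOf E).index = 2 := by
    refine index_eq_two_iff.2 ⟨⟨a, ha⟩, fun b => ?_⟩
    by_cases f : (b : X) ∈ C
    · exact .inr ⟨f, fun k => a1 ((C.mul_mem_cancel_left f).1 k)⟩
    · exact .inl ⟨h _ b.2 a ha f a1, f⟩
  have h2 := card_mul_relIndex hC
  rw [relIndex, h1] at h2
  omega

theorem two_mul_card_le (h : C ≤ D) (hw : w ∈ D) (w1 : w ∉ C) : 2 * ♯C ≤ ♯D := by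
  have h2 := card_mul_relIndex h
  have h1 : C.relIndex D ≠ 1 := fun e => w1 (relIndex_eq_one.1 e hw)
  have h3 := card_pos' D
  have h4 : 2 ≤ C.relIndex D := by
    rcases e : C.relIndex D with _ | _ | n
    · rw [e] at h2; omega
    · exact absurd e h1
    · omega
  rw [← h2, mul_comm 2]
  exact Nat.mul_le_mul_left _ h4

theorem ext_card (w1 : w ∉ C) : 2 * ♯C ≤ ♯(C ⊔ zpowers w : Subgroup X) :=
  two_mul_card_le le_sup_left (mem_sup_right (mem_zpowers w)) w1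

theorem zp_le_cent (h : C ≤ 𝐂[w]) : C ≤ 𝐂(zpowers w) :=
  le_cent_symm (zpowers_le.2 (le_cent1_iff.1 h))

theorem ext_elem (hC : IsElementaryAbelian 2 C) (w2 : w * w = 1) (h : C ≤ 𝐂[w]) :
    IsElementaryAbelian 2 (C ⊔ zpowers w : Subgroup X) :=
  Transfer.isElementaryAbelian_sup hC (Transfer.isElementaryAbelian_zpowers (by rw [sq, w2]))
    (zp_le_cent h)

theorem elem_le (h : C ≤ D) (hD : IsElementaryAbelian 2 D) : IsElementaryAbelian 2 C :=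
  Transfer.isElementaryAbelian_iff.2 ⟨fun a ha b hb =>
    (Transfer.isElementaryAbelian_iff.1 hD).1 a (h ha) b (h hb), fun a ha => hD.2 a (h ha)⟩

theorem mem_zp2 (hy : y * y = 1) (h : c ∈ zpowers y) : c = 1 ∨ c = y := by
  obtain ⟨k, rfl⟩ := h
  have e : y ^ (2 : ℤ) = 1 := by rw [zpow_two, hy]
  rcases Int.even_or_odd' k with ⟨m, rfl | rfl⟩
  · left; simp only [zpow_mul, e, one_zpow]
  · right; simp only [zpow_add, zpow_mul, e, one_zpow, one_mul, zpow_one]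

/-- elements commuting with `d` modulo `Y` -/
def cmod (d : X) (Y : Subgroup X) : Subgroup X where
  carrier := {c | c ∈ 𝐍(Y) ∧ d * c * d⁻¹ * c⁻¹ ∈ Y}
  one_mem' := ⟨one_mem _, by simp⟩
  mul_mem' := fun {a b} ha hb => ⟨mul_mem ha.1 hb.1, by
    have e : d * (a * b) * d⁻¹ * (a * b)⁻¹ =
      d * a * d⁻¹ * a⁻¹ * (a * (d * b * d⁻¹ * b⁻¹) * a⁻¹) := by group
    rw [e]; exact mul_mem ha.2 (conj_mem_of_norm ha.1 hb.2)⟩
  inv_mem' := fun {a} ha => ⟨inv_mem ha.1, by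
    have e : d * a⁻¹ * d⁻¹ * a⁻¹⁻¹ = a⁻¹ * (d * a * d⁻¹ * a⁻¹)⁻¹ * a⁻¹⁻¹ := by group
    rw [e]; exact conj_mem_of_norm (inv_mem ha.1) (inv_mem ha.2)⟩

theorem mem_cmod (h1 : c * y = y * c) (h2 : d * c * d⁻¹ * c⁻¹ = 1 ∨ d * c * d⁻¹ * c⁻¹ = y) :
    c ∈ cmod d (zpowers y) :=
  ⟨cent_le_norm _ (zp_le_cent (C := 𝐂[y]) le_rfl (mem_cent1.2 h1)),
    h2.elim (fun e => e ▸ one_mem _) fun e => e ▸ mem_zpowers y⟩

theorem comm_one (h : d * c = c * d) : d * c * d⁻¹ * c⁻¹ = 1 := by rw [h]; group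

theorem of_comm_one (h : d * c * d⁻¹ * c⁻¹ = 1) : d * c = c * d := by
  rw [mul_inv_eq_one, mul_inv_eq_iff_eq_mul] at h; exact h

/-- `w` is an involution of `U` with `[U, w] = ⟨z⟩` -/
structure Tv (U : Subgroup X) (w z : X) : Prop where
  mem : w ∈ U
  sq : w * w = 1
  cm : ∀ u ∈ U, u * w * u⁻¹ * w⁻¹ = 1 ∨ u * w * u⁻¹ * w⁻¹ = z
  nt : ∃ u ∈ U, u * w * u⁻¹ * w⁻¹ ≠ 1

theorem Tv.conj (h : Tv U w z) (hs : s ∈ 𝐍(U)) : Tv U (s * w * s⁻¹) (s * z * s⁻¹) := by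
  refine ⟨conj_mem_of_norm hs h.mem, ?_, fun u hu => ?_, ?_⟩
  · have : s * w * s⁻¹ * (s * w * s⁻¹) = s * (w * w) * s⁻¹ := by group
    rw [this, h.sq]; group
  · have e : u * (s * w * s⁻¹) * u⁻¹ * (s * w * s⁻¹)⁻¹ =
      s * (s⁻¹ * u * s⁻¹⁻¹ * w * (s⁻¹ * u * s⁻¹⁻¹)⁻¹ * w⁻¹) * s⁻¹ := by group
    rw [e]
    rcases h.cm _ (conj_mem_of_norm (inv_mem hs) hu) with f | f <;> rw [f]
    · left; group
    · right; rfl
  · obtain ⟨u, hu, e⟩ := h.nt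
    refine ⟨_, conj_mem_of_norm hs hu, fun f => e ?_⟩
    have e2 : u * w * u⁻¹ * w⁻¹ = s⁻¹ * (s * u * s⁻¹ * (s * w * s⁻¹) * (s * u * s⁻¹)⁻¹ *
      (s * w * s⁻¹)⁻¹) * s := by group
    rw [e2, f]; group

theorem Tv.comm (h : Tv U w z) (h' : Tv U w' z') (e : z * z' ≠ 1) : w * w' = w' * w := by
  rcases h.cm _ h'.mem with f | f
  · exact (of_comm_one f).symm
  rcases h'.cm _ h.mem with f' | f'
  · exact of_comm_one f'
  exact absurd (by rw [← f, ← f']; group) e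

namespace Q2

variable (h : Q2 T Q R y z g)
include h

theorem ncomm (hb : b ∈ R) (b1 : b ∉ Q) : b * y ≠ y * b := fun e => b1 (h.memQ (h.RT hb) e)

theorem card_le (hB : B ≤ R) : ♯B ≤ 2 * ♯(B ⊓ Q : Subgroup X) :=
  card_le_two_mul inf_le_left fun _ ha _ hb a1 b1 => mem_inf.2 ⟨B.mul_mem ha hb,
    h.mul_mem (hB ha) (hB hb) (fun e => a1 (mem_inf.2 ⟨ha, e⟩)) fun e => b1 (mem_inf.2 ⟨hb, e⟩)⟩

theorem repl_le : B ⊓ Q ⊔ zpowers y ≤ Q := sup_le inf_le_right (zpowers_le.2 h.yQ)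

theorem repl (hB : B ∈ Transfer.maxElem 2 R) (e : ¬ B ≤ Q) :
    B ⊓ Q ⊔ zpowers y ∈ Transfer.maxElem 2 R := by
  obtain ⟨b, hb, b1⟩ := SetLike.not_le_iff_exists.1 e
  have y0 : y ∉ B ⊓ Q := fun f => h.ncomm (hB.1 hb) b1
    ((Transfer.isElementaryAbelian_iff.1 hB.2.1).1 b hb y f.1)
  have h1 := h.card_le hB.1
  have h2 := ext_card y0
  exact ⟨h.repl_le.trans h.QR, ext_elem (elem_le inf_le_left hB.2.1) h.y2
    (inf_le_right.trans h.Qy), fun F a b => (hB.2.2 F a b).trans (h1.trans h2)⟩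

theorem maxR (hE : E ∈ Transfer.maxElem 2 Q) : E ∈ Transfer.maxElem 2 R := by
  obtain ⟨B, hB, e⟩ := h.off
  exact mem_maxElem_of_mem (h.repl hB e) h.repl_le h.QR hE

theorem yz : y * (y * z) ≠ 1 := by
  rw [← mul_assoc, h.y2, one_mul]; exact h.z1

theorem yz1 : y * z ≠ 1 := fun e => by
  obtain ⟨B, hB, f⟩ := h.off
  obtain ⟨b, hb, b1⟩ := SetLike.not_le_iff_exists.1 f
  have e2 : y = z := by rw [← mul_one y, ← h.z2, ← mul_assoc, e, one_mul]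
  exact h.ncomm (hB.1 hb) b1 (e2 ▸ h.cz (hB.1 hb))

theorem yz_ne : y * z ≠ y := fun e => h.z1 (mul_eq_left.1 e)

/-- (L) -/
theorem not_tv (hw : Tv (JJ Q) w z) : False := by
  obtain ⟨B, hB, e⟩ := h.off
  obtain ⟨b, hb, b1⟩ := SetLike.not_le_iff_exists.1 e
  have bR := hB.1 hb
  have nU : 𝐍(Q) ≤ 𝐍(JJ Q) := norm_le_norm_JJ (JJ_le Q) le_rfl
  have t2 := hw.conj (nU h.gQ)
  rw [h.gz] at t2
  generalize g * w * g⁻¹ = v at t2
  have t3 := t2.conj (nU (h.RQ bR))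
  rw [h.mv b bR b1] at t3
  have c23 := t2.comm t3 h.yz
  have hE := Transfer.mem_maxElem_of_le (h.repl hB e) h.repl_le h.QR
  have DU : B ⊓ Q ≤ JJ Q := le_sup_left.trans (le_JJ hE)
  have vQ := JJ_le Q t2.mem
  have v'Q := JJ_le Q t3.mem
  have cB := (Transfer.isElementaryAbelian_iff.1 hB.2.1).1
  have k3 : ∀ d ∈ B, d * (b * v * b⁻¹) * d⁻¹ * (b * v * b⁻¹)⁻¹ =
      b * (d * v * d⁻¹ * v⁻¹) * b⁻¹ := fun d hd => by
    have e1 : d * (b * v * b⁻¹) * d⁻¹ * (b * v * b⁻¹)⁻¹ =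
      (d * b) * v * (d * b)⁻¹ * (b * v * b⁻¹)⁻¹ := by group
    rw [e1, cB d hd b hb]; group
  by_cases hc : B ⊓ Q ≤ 𝐂[v]
  · have vE : v ∈ B ⊓ Q ⊔ zpowers y := zpowers_le.1 (Transfer.le_of_mem_maxElem hE
      (zpowers_le.2 vQ) (Transfer.isElementaryAbelian_zpowers (by rw [sq, t2.sq]))
      (zpowers_le.2 (le_cent1_iff.1 (sup_le hc (zpowers_le.2 (mem_cent1.2 (h.cy vQ).symm))))))
    have h1 : B ⊓ Q ⊔ zpowers y ≤ cmod b (zpowers z) := sup_le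
      (fun d hd => mem_cmod (h.cz (h.QR hd.2)) (.inl (comm_one (cB b hb d hd.1))))
      (zpowers_le.2 (mem_cmod (h.cz (h.QR h.yQ)) (.inr (by
        rw [h.mv b bR b1, h.cz (h.QR h.yQ), mul_inv_cancel_right]))))
    obtain ⟨u, hu, u1⟩ := t2.nt
    have u2 := (t2.cm u hu).resolve_left u1
    have uz := h.cz (h.QR (JJ_le Q hu))
    have u3 : u * (b * v * b⁻¹) * u⁻¹ * (b * v * b⁻¹)⁻¹ = y := by
      rcases mem_zp2 h.z2 (h1 vE).2 with f | f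
      · rw [mul_inv_eq_one.1 f, u2]
      · rw [mul_inv_eq_iff_eq_mul.1 f]
        have e1 : u * (z * v) * u⁻¹ * (z * v)⁻¹ = u * z * v * u⁻¹ * v⁻¹ * z⁻¹ := by group
        have e2 : z * u * v * u⁻¹ * v⁻¹ * z⁻¹ = z * (u * v * u⁻¹ * v⁻¹) * z⁻¹ := by group
        rw [e1, uz, e2, u2, ← h.cz (h.QR h.yQ), mul_inv_cancel_right]
    rcases t3.cm u hu with f | f
    · exact h.y1 (u3.symm.trans f)
    · exact h.yz_ne (f.symm.trans u3)
  obtain ⟨d, hd, d1⟩ := SetLike.not_le_iff_exists.1 hc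
  have d2 := (t2.cm d (DU hd)).resolve_left fun f => d1 (mem_cent1.2 (of_comm_one f))
  have d3 := k3 d hd.1
  rw [d2, h.mv b bR b1] at d3
  set C0 := B ⊓ Q ⊓ 𝐂[v] with hC0
  have n1 := h.card_le hB.1
  have n2 : ♯(B ⊓ Q : Subgroup X) ≤ 2 * ♯C0 := card_le_two_mul inf_le_left
    fun a ha c hc a1 c1 => mem_inf.2 ⟨Subgroup.mul_mem _ ha hc, mem_cent1.2 (of_comm_one (by
      have a2 := (t2.cm a (DU ha)).resolve_left fun f =>
        a1 (mem_inf.2 ⟨ha, mem_cent1.2 (of_comm_one f)⟩)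
      have c2 := (t2.cm c (DU hc)).resolve_left fun f =>
        c1 (mem_inf.2 ⟨hc, mem_cent1.2 (of_comm_one f)⟩)
      have e1 : a * c * v * (a * c)⁻¹ * v⁻¹ =
        a * (c * v * c⁻¹ * v⁻¹) * a⁻¹ * (a * v * a⁻¹ * v⁻¹) := by group
      rw [e1, a2, c2, h.cy ha.2, mul_inv_cancel_right, h.y2]))⟩
  have CB : C0 ≤ B := inf_le_left.trans inf_le_left
  have CQ : C0 ≤ Q := inf_le_left.trans inf_le_right
  have n3 : 2 * ♯C0 ≤ _ := ext_card (w := y) fun f => h.ncomm bR b1 (cB b hb y (CB f))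
  have n4 : 2 * ♯(C0 ⊔ zpowers y : Subgroup X) ≤ _ := ext_card (w := v) fun f => d1 (by
    have : C0 ⊔ zpowers y ≤ 𝐂[d] := sup_le (fun c hc => mem_cent1.2 (cB c (CB hc) d hd.1))
      (zpowers_le.2 (mem_cent1.2 (h.cy hd.2).symm))
    exact mem_cent1.2 (mem_cent1.1 (this f)).symm)
  have n5 : 2 * ♯(C0 ⊔ zpowers y ⊔ zpowers v : Subgroup X) ≤ _ :=
    ext_card (w := b * v * b⁻¹) fun f => by
      have : C0 ⊔ zpowers y ⊔ zpowers v ≤ cmod d (zpowers y) := sup_le (sup_le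
        (fun c hc => mem_cmod (h.cy (CQ hc)) (.inl (comm_one (cB d hd.1 c (CB hc)))))
        (zpowers_le.2 (mem_cmod rfl (.inl (comm_one (h.cy hd.2))))))
        (zpowers_le.2 (mem_cmod (h.cy vQ) (.inr d2)))
      rcases mem_zp2 h.y2 (this f).2 with k | k
      · exact h.yz1 (d3.symm.trans k)
      · exact h.yz_ne (d3.symm.trans k)
  have e1 := ext_elem (elem_le CB hB.2.1) h.y2 (CQ.trans h.Qy)
  have e2 := ext_elem e1 t2.sq (sup_le inf_le_right (zpowers_le.2 (mem_cent1.2 (h.cy vQ).symm)))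
  have e3 := ext_elem e2 t3.sq (sup_le (sup_le (fun c hc => mem_cent1.2 (of_comm_one (by
    rw [k3 c (CB hc), comm_one (mem_cent1.1 hc.2)]; group)))
    (zpowers_le.2 (mem_cent1.2 (h.cy v'Q).symm))) (zpowers_le.2 (mem_cent1.2 c23)))
  have n6 := hB.2.2 _ ((sup_le (sup_le (sup_le CQ (zpowers_le.2 h.yQ)) (zpowers_le.2 vQ))
    (zpowers_le.2 v'Q)).trans h.QR) e3
  have n7 := card_pos' C0
  omega

/-- (a2) -/
theorem a2 (ht : t ∈ T) (tR : t ∈ 𝐍(R)) (tz : t * z * t⁻¹ = z) (t1 : t ∉ R)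
    (hv : t * y * t⁻¹ * y = y * (t * y * t⁻¹)) : False := by
  have h' := h.conj (le_norm_self T ht)
  rw [conj_eq_of_mem_norm tR, tz] at h'
  have vQ := h.memQ h'.yT hv
  obtain ⟨E, hE, e⟩ : ∃ E ∈ Transfer.maxElem 2 Q, ¬ E ≤ t •ᶜ Q := by
    by_contra! f
    have h1 : JJ Q ≤ JJ (t •ᶜ Q) := JJ_le_iff.2 fun E hE =>
      le_JJ (Transfer.mem_maxElem_of_le (h.maxR hE) (f E hE) h'.QR)
    have e : JJ (t •ᶜ Q) = t •ᶜ JJ Q := (Transfer.conj_smul_thompsonSubgroupOf t Q).symm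
    rw [e] at h1
    exact t1 (h.hRU (mem_inf.2 ⟨ht, conj_eq_self_iff.1
      (eq_of_le_of_card_ge h1 (card_conj t _).le).symm⟩))
  generalize t * y * t⁻¹ = v at h' vQ
  have h1 := Transfer.mem_maxElem_of_le (h'.repl (h.maxR hE) e)
    (sup_le (inf_le_left.trans hE.1) (zpowers_le.2 vQ)) h.QR
  have vz : v * z * v⁻¹ = z := by rw [h.cz (h.QR vQ), mul_inv_cancel_right]
  obtain ⟨c, hc, c1⟩ := SetLike.not_le_iff_exists.1 e
  refine h.not_tv ⟨le_JJ h1 (mem_sup_right (mem_zpowers v)), h'.y2, fun u hu => ?_,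
    c, le_JJ hE hc, ?_⟩
  · rcases h'.mv' (h.QR (JJ_le Q hu)) with f | f <;> rw [f]
    · exact .inl (mul_inv_cancel v)
    · exact .inr vz
  · rw [h'.mv c (h.QR (hE.1 hc)) c1, vz]; exact h.z1

end Q2

end Cfsg.Agent.CE
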