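import Cfsg.Agent.Lib.CE.ToFF
import Cfsg.Agent.Lib.CE.FFq
import Cfsg.Agent.Lib.CE.Glue
import Cfsg.Agent.Lib.CE.Alpha
import Cfsg.Agent.Lib.CE.Beta9
import Cfsg.Agent.Lib.CE.Sel
import Cfsg.Agent.Lib.CE.Fin

/-!
# The theorem `CE`
-/

set_option autoImplicit false

namespace Cfsg.Agent.CE

open Subgroup Cfsg.Agent.Coprime Cfsg.Agent.OO

universe u

theorem ce9 : CE.{u} := ce_of_min fun X _ _ G x h => by
  obtain ⟨T, hT, hxT⟩ := h.exists_syl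
  refine fin h.prime h.norm h.cop h.odd h.smp h.nab (fun H h1 h2 => h.sol H (lt_of_le_of_ne h1 h2))
    hT hxT (by_contra fun nwc => ?_)
  obtain ⟨U, Q, K, R, c⟩ := sel h hT hxT nwc
  obtain ⟨A, hA, d⟩ := c.toFFD h hT hxT
  obtain ⟨y, z, g, -, q⟩ := Cfg.toQ2 hT c hA.1 (c.toF2 d d.ca (d.q2 h hT hxT c.KG))
  have hf : T ⊓ 𝐂[x] = ⊥ := eq_bot_of_le_odd (hT.isPGroup.to_le inf_le_left)
    (inf_le_inf_right _ hT.le) h.odd
  have e := q.cent_eq h.prime hxT hf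
  obtain ⟨B, hB, h1⟩ := q.off
  exact beta9 q.pT h.prime hxT hf (fun t ht => h.mem_of_conj_mem hT.le hT.isPGroup hxT ht) q.yT
    (q.QT q.zQ) q.y2 q.z2 q.z1 (fun r hr => q.cz (q.QR (q.hQ.ge hr)))
    (fun r hr e' => q.mv' (e.le ⟨hr, mem_cent1.2 e'⟩)) (e.symm ▸ hB)
    fun e' => h1 ((le_inf (hB.1.trans q.RT) e').trans q.hQ.ge)

end Cfsg.Agent.CE
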