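import Cfsg.Agent.Lib.CE.Cfg

/-!
# The case `q = 2`: data inside the Sylow 2-subgroup
-/

set_option autoImplicit false
set_option linter.unusedSectionVars false

namespace Cfsg.Agent.CE

open Subgroup Cfsg.Agent.OO Cfsg.Agent.ZN
open scoped Pointwise

universe u

variable {X : Type u} [Group X] [Finite X] {T Q R A : Subgroup X} {y z g s r : X}

/-- the data used in the end game for `q = 2` -/
structure Q2 (T Q R : Subgroup X) (y z g : X) : Prop where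
  pT : IsPGroup 2 T
  yT : y ∈ T
  y2 : y * y = 1
  hQ : Q = T ⊓ 𝐂[y]
  hR : R = T ⊓ 𝐍(Q)
  hRU : T ⊓ 𝐍(JJ Q) ≤ R
  z1 : z ≠ 1
  zQ : z ∈ Q
  Rz : R ≤ 𝐂[z]
  mv : ∀ r ∈ R, r ∉ Q → r * y * r⁻¹ = y * z
  gQ : g ∈ 𝐍(Q)
  gz : g * z * g⁻¹ = y
  off : ∃ A ∈ Transfer.maxElem 2 R, ¬ A ≤ Q

namespace Q2

variable (h : Q2 T Q R y z g)
include h

theorem QT : Q ≤ T := h.hQ ▸ inf_le_left
theorem Qy : Q ≤ 𝐂[y] := h.hQ ▸ inf_le_right
theorem RT : R ≤ T := h.hR ▸ inf_le_left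
theorem RQ : R ≤ 𝐍(Q) := h.hR ▸ inf_le_right
theorem QR : Q ≤ R := h.hR ▸ le_inf h.QT (le_norm_self Q)
theorem memQ (a : r ∈ T) (b : r * y = y * r) : r ∈ Q := h.hQ ▸ mem_inf.2 ⟨a, mem_cent1.2 b⟩
theorem memR (a : r ∈ T) (b : r ∈ 𝐍(Q)) : r ∈ R := h.hR ▸ mem_inf.2 ⟨a, b⟩
theorem yQ : y ∈ Q := h.memQ h.yT rfl
theorem cy (a : r ∈ Q) : r * y = y * r := mem_cent1.1 (h.Qy a)
theorem cz (a : r ∈ R) : r * z = z * r := mem_cent1.1 (h.Rz a)
theorem z2 : z * z = 1 := by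
  have e := h.y2
  rw [← h.gz] at e
  have : g * (z * z) * g⁻¹ = g * 1 * g⁻¹ := by rw [mul_one, mul_inv_cancel, ← e]; group
  exact mul_left_cancel (mul_right_cancel this)
theorem y1 : y ≠ 1 := fun e => h.z1 (by
  have := h.gz
  rw [e] at this
  have e2 : z = g⁻¹ * (g * z * g⁻¹) * g := by group
  rw [e2, this]; group)
theorem mv' (a : r ∈ R) : r * y * r⁻¹ = y ∨ r * y * r⁻¹ = y * z := by
  by_cases e : r ∈ Q
  · exact .inl (by rw [h.cy e, mul_inv_cancel_right])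
  · exact .inr (h.mv r a e)
theorem mul_mem {a b : X} (ha : a ∈ R) (hb : b ∈ R) (a1 : a ∉ Q) (b1 : b ∉ Q) : a * b ∈ Q := by
  refine h.memQ (h.RT (R.mul_mem ha hb)) (mul_inv_eq_iff_eq_mul.1 ?_)
  have e : a * b * y * (a * b)⁻¹ = a * (b * y * b⁻¹) * a⁻¹ := by group
  have e2 : a * (y * z) * a⁻¹ = a * y * a⁻¹ * (a * z * a⁻¹) := by group
  rw [e, h.mv b hb b1, e2, h.mv a ha a1, h.cz ha, mul_inv_cancel_right, mul_assoc, h.z2, mul_one]

theorem conj (hs : s ∈ 𝐍(T)) :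
    Q2 T (s •ᶜ Q) (s •ᶜ R) (s * y * s⁻¹) (s * z * s⁻¹) (s * g * s⁻¹) where
  pT := h.pT
  yT := conj_mem_of_norm hs h.yT
  y2 := by
    have : s * y * s⁻¹ * (s * y * s⁻¹) = s * (y * y) * s⁻¹ := by group
    rw [this, h.y2]; group
  hQ := by rw [cent1_conj, h.hQ, conj_inf, conj_eq_of_mem_norm hs]
  hR := by rw [norm_conj]; conv_lhs => rw [h.hR, conj_inf, conj_eq_of_mem_norm hs]
  hRU := by
    have e : JJ (s •ᶜ Q) = s •ᶜ JJ Q := (Transfer.conj_smul_thompsonSubgroupOf s Q).symm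
    rw [e, norm_conj]
    conv_lhs => rw [← conj_eq_of_mem_norm hs, ← conj_inf]
    exact conj_mono s h.hRU
  z1 := fun e => h.z1 (by
    have e2 : z = s⁻¹ * (s * z * s⁻¹) * s := by group
    rw [e2, e]; group)
  zQ := conj_mem_conj h.zQ
  Rz := by rw [cent1_conj]; exact conj_mono s h.Rz
  mv := fun r a b => by
    obtain ⟨c, hc, rfl⟩ := mem_conj_iff_exists.1 a
    have e := h.mv c hc fun f => b (conj_mem_conj f)
    have e2 : s * c * s⁻¹ * (s * y * s⁻¹) * (s * c * s⁻¹)⁻¹ = s * (c * y * c⁻¹) * s⁻¹ := by group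
    rw [e2, e]; group
  gQ := by rw [norm_conj]; exact conj_mem_conj h.gQ
  gz := by rw [← h.gz]; group
  off := by
    obtain ⟨A, hA, e⟩ := h.off
    refine ⟨s •ᶜ A, ?_, fun f => e (conj_le_conj_iff.1 f)⟩
    exact Transfer.map_mem_maxElem (MulAut.conj s).toMonoidHom (by
      rw [(MonoidHom.ker_eq_bot_iff _).2 (conj_injective s), inf_bot_eq]) hA

end Q2

end Cfsg.Agent.CE
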