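import Cfsg.Agent.Lib.CE.Cfg
import Cfsg.Agent.Lib.CE.Pts
import Cfsg.Agent.Lib.CE.FF
import Cfsg.Agent.Lib.CE.FF2

/-!
# `CE`: elementary facts on the configuration, and a quadratic offender
-/

set_option autoImplicit false
set_option linter.unusedSectionVars false

namespace Cfsg.Agent.CE

open Subgroup Cfsg.Agent.Coprime Cfsg.Agent.OO Cfsg.Agent.GW Cfsg.Agent.ZN
open scoped Pointwise commutatorElement

universe u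

variable {X : Type u} [Group X] [Finite X] {G T U Q K R : Subgroup X} {x : X}

theorem Min.exists_syl (h : Min G x) : ∃ T, Syl 2 T G ∧ x ∈ 𝐍(T) := by
  have := Fact.mk Nat.prime_two
  obtain ⟨T, hT⟩ := OO.exists_syl 2 G
  obtain ⟨g, hg, h1⟩ := exists_invariant_conj (A := zpowers x) (G := G) (zpowers_le.2 h.norm)
    (by rw [Nat.card_zpowers]; exact h.cop.symm)
    (Or.inl (sol_of_ab (ab_of_isCyclic inferInstance))) T fun a ha => by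
      obtain ⟨g, hg, e⟩ := hT.exists_conj' (hT.conj_of_norm (zpowers_le.2 h.norm ha))
      exact ⟨g, hg, e⟩
  exact ⟨g •ᶜ T, hT.conj_of_mem hg, h1 (mem_zpowers x)⟩

namespace Cfg

variable (c : Cfg G T U Q K R)
include c

theorem RT : R ≤ T := c.hR ▸ inf_le_left
theorem KG : K ≤ G := c.hK ▸ inf_le_left
theorem KQ : K ≤ 𝐍(Q) := c.hK ▸ inf_le_right
theorem QK : Q ≤ K := c.QR.trans c.RK
theorem abW : IsElementaryAbelian 2 (Ohm 2 (Zc Q)) := Ohm_abelem 2 (Zc_ab Q)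
theorem KW : K ≤ 𝐍(Ohm 2 (Zc Q)) := c.KQ.trans ((norm_le_norm_Zc Q).trans (norm_le_norm_Ohm 2 _))
theorem ZW : Zt T ≤ Ohm 2 (Zc Q) := by simpa using c.ptW 1 (one_mem K)
theorem WQ : Ohm 2 (Zc Q) ≤ Q := (Ohm_le 2 _).trans (Zc_le Q)
theorem QW : Q ≤ 𝐂(Ohm 2 (Zc Q)) := le_cent_symm ((Ohm_le 2 _).trans inf_le_right)
theorem RZ : R ≤ 𝐂(Zt T) := c.RT.trans (le_cent_symm ((Ohm_le 2 _).trans inf_le_right))
theorem not_KZ : ¬ K ≤ 𝐍(Zt T) := fun e =>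
  let ⟨_, hk, h⟩ := c.two
  h (conj_eq_of_mem_norm (e hk))

theorem card_le {A B : Subgroup X} (hA : A ∈ Transfer.maxElem 2 R) (hB : B ≤ K)
    (eB : IsElementaryAbelian 2 B) : ♯B ≤ ♯A := by
  have := Fact.mk Nat.prime_two
  obtain ⟨g, -, hg⟩ := c.sylK.exists_conj_le hB (abelem_isPGroup eB)
  exact (card_conj g B).ge.trans (hA.2.2 _ hg (abelem_conj.2 eB))

theorem pt_le {k : X} (hk : k ∈ K) : k •ᶜ Zt T ≤ Zc U := by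
  rw [← conj_eq_of_mem_norm (norm_le_norm_Zc U (c.KU hk))]
  exact conj_le_conj_iff.2 c.ZU

theorem hu' {A B : Subgroup X} (hA : A ∈ Transfer.maxElem 2 R) (hB : B ≤ K)
    (eB : IsElementaryAbelian 2 B) (hc : ♯A ≤ ♯B) {g k : X} (hg : g ∈ K) (hk : k ∈ K)
    (ne : g •ᶜ Zt T ≠ k •ᶜ Zt T) (h1 : B ≤ 𝐂(g •ᶜ Zt T)) (h2 : B ≤ 𝐂(k •ᶜ Zt T)) : B ≤ Q :=
  (by_contra fun e => ne (c.hu B (hB.trans (le_inf c.KG c.KU)) eB
    (fun _ hB' => (hA.2.2 _ (hB'.1.trans (c.UQ.trans c.QR)) hB'.2.1).trans hc) e _ _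
    ⟨g, c.KG hg, rfl⟩ ⟨k, c.KG hk, rfl⟩ (c.pt_le hg) (c.pt_le hk) h1 h2) : B ≤ U).trans c.UQ

/-- a 2-subgroup of `K` centralizing `W` lies in `Q` -/
theorem le_Q {P : Subgroup X} (hP : P ≤ K) (h2 : IsPGroup 2 P) (h : P ≤ 𝐂(Ohm 2 (Zc Q))) : P ≤ Q :=
  c.ker P hP h2 fun k hk => (h.trans (cent_anti (c.ptW k hk))).trans (cent_le_norm _)

/-- a quadratic offender -/
theorem exists_quad : ∃ A ∈ Transfer.maxElem 2 R, ¬ A ≤ Q ∧ ⁅Ohm 2 (Zc Q), A⁆ ≤ A := by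
  have := Fact.mk Nat.prime_two
  obtain ⟨A, hA, h1⟩ := c.off
  obtain ⟨B, hB, h2, h3⟩ := Transfer.exists_quadratic_mem_maxElem c.sylK.isPGroup
    (c.WQ.trans c.QR) c.abW (c.RK.trans c.KW) hA fun e =>
      h1 (c.le_Q (hA.1.trans c.RK) (abelem_isPGroup hA.2.1) e)
  exact ⟨B, hB, fun e => h2 (e.trans c.QW), h3⟩

theorem p1 (h : Min G x) (hT : Syl 2 T G) (hxT : x ∈ 𝐍(T)) {k a : X} (hk : k ∈ K) (ha : a ∈ K)
    (a2 : a ^ 2 = 1) (hn : a ∈ 𝐍(k •ᶜ Zt T)) : a ∈ 𝐂(k •ᶜ Zt T) :=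
  h.p1 hT hxT (c.KG hk) (zpowers_le.2 (c.KG ha))
    (Core.isPGroup_zpowers_of_pow_eq_one (k := 1) (by rwa [pow_one])) (zpowers_le.2 hn)
    (mem_zpowers a)

theorem toFFD (h : Min G x) (hT : Syl 2 T G) (hxT : x ∈ 𝐍(T)) :
    ∃ A ∈ Transfer.maxElem 2 R, FFD K (Ohm 2 (Zc Q)) (Zt T) Q A :=
  let ⟨A, hA, h1, h2⟩ := c.exists_quad
  ⟨A, hA, c.abW, c.KW, c.ZW, c.WQ, c.QW, c.QK, c.KQ, hA.1.trans c.RK, hA.2.1, hA.1.trans c.RZ, h2,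
    fun _ hB eB => c.card_le hA hB eB, h1, c.not_KZ, fun _ hk _ ha => c.p1 h hT hxT hk ha,
    fun _ hB eB hc _ hg _ hk => c.hu' hA hB eB hc hg hk⟩

theorem toF2 {A : Subgroup X} (d : FFD K (Ohm 2 (Zc Q)) (Zt T) Q A)
    (ca : ∀ a ∈ A, a ∉ Q → Ohm 2 (Zc Q) ⊓ 𝐂[a] ≤ Ohm 2 (Zc Q) ⊓ 𝐂(A))
    (idx : ♯(Ohm 2 (Zc Q)) = 2 * ♯(Ohm 2 (Zc Q) ⊓ 𝐂(A) : Subgroup X)) :
    F2 K (Ohm 2 (Zc Q)) (Zt T) Q A :=
  ⟨d.hW, d.KW, d.ZW, d.QW, d.KQ, d.AK, d.hA, d.AZ, d.nAQ, d.p1, fun k hk e => by_contra fun ne =>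
    d.nAQ (d.hu A d.AK d.hA le_rfl k hk 1 (one_mem K) (by simpa using ne) e (by simpa using d.AZ)),
    ca, idx, c.ker⟩

end Cfg

end Cfsg.Agent.CE
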